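import Cfsg.Agent.H958.SixC.Defs

/-!
# S5927, S5928: `sixc_two`, BOX S (helper801): dimensions of fixed spaces in characteristic 2

* `three_ev` : `3 * ev (ρ y) 1 = dim M` for `y` of order 3 conjugate to `ζ y`;
* `ev_le` : `3 * ev (ρ z) 1 ≤ dim M`;
* `even_sub` : `dim M - ev (ρ z) 1` is even;
* `fourfix` : fixed vectors or functionals of the two subgroups `A₅`.
-/

set_option autoImplicit false

namespace Cfsg.Agent.H958.SixC

open Module
open Cfsg.Agent.H952.F4 (ev es)

variable {F P M : Type*} [Field F] [Group P] [AddCommGroup M] [Module F M] [FiniteDimensional F M]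

section Abs
variable [CharP F 2]

omit [CharP F 2] in
theorem cube_sum {c : F} (hc : c ≠ 1) (h3 : c ^ 3 = 1) : c ^ 2 + c + 1 = 0 := by
  have h : (c - 1) * (c ^ 2 + c + 1) = 0 := by linear_combination h3
  exact (mul_eq_zero.1 h).resolve_left (sub_ne_zero.2 hc)

/-- an endomorphism with `T³ = 1` is diagonalisable -/
theorem split3 (T : Module.End F M) {c : F} (hc : c ≠ 1) (h3 : c ^ 3 = 1) (hT : ∀ v, T (T (T v)) = v) :
    ev T 1 + ev T c + ev T (c ^ 2) = finrank F M := by
  have hs := cube_sum hc h3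
  let f : (↥(T.eigenspace 1) × ↥(T.eigenspace c) × ↥(T.eigenspace (c ^ 2))) →ₗ[F] M :=
    LinearMap.coprod (T.eigenspace 1).subtype (LinearMap.coprod (T.eigenspace c).subtype (T.eigenspace (c ^ 2)).subtype)
  have hf : ∀ a b d, f (a, b, d) = (a : M) + ((b : M) + (d : M)) := fun a b d => rfl
  have hsm : ∀ v : M, (c ^ 2 + c + 1) • v = 0 := fun v => by rw [hs, zero_smul]
  have h2 : ∀ v : M, (2 : F) • v = 0 := fun v => by
    rw [show (2 : F) = 0 from CharTwo.two_eq_zero, zero_smul]
  have h3' : ∀ v : M, (c ^ 3 - 1) • v = 0 := fun v => by rw [h3, sub_self, zero_smul]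
  have hinj : Function.Injective f := by
    rw [injective_iff_map_eq_zero]
    rintro ⟨⟨a, ha⟩, ⟨b, hb⟩, ⟨d, hd⟩⟩ h0
    rw [hf] at h0
    rw [Module.End.mem_eigenspace_iff] at ha hb hd
    change a + (b + d) = 0 at h0
    have h1 : T (a + (b + d)) = 0 := by rw [h0, map_zero]
    rw [map_add, map_add, ha, hb, hd] at h1
    have h5 : T (T (a + (b + d))) = 0 := by rw [h0, map_zero, map_zero]
    rw [map_add, map_add, map_add, map_add, ha, hb, hd, map_smul, map_smul, map_smul, ha, hb, hd] at h5
    have ea : a = 0 := by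
      linear_combination (norm := module) h0 + h1 + h5 - h2 a - hsm b - hsm d - (c) • h3' d
    have eb : b = 0 := by
      rw [ea] at h0 h1
      have h6 : (c ^ 2 - c) • b = 0 := by
        linear_combination (norm := module) (c ^ 2) • h0 - h1
      have h7 : c ^ 2 - c ≠ 0 := by
        intro h
        have h8 : c * (c - 1) = 0 := by linear_combination h
        rcases mul_eq_zero.1 h8 with h9 | h9
        · rw [h9] at h3; norm_num at h3
        · exact hc (sub_eq_zero.1 h9)
      exact (smul_eq_zero.1 h6).resolve_left h7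
    have ed : d = 0 := by
      rw [ea, eb] at h0
      simpa using h0
    subst ea; subst eb; subst ed
    rfl
  have hsurj : Function.Surjective f := by
    intro v
    have e1 : v + T v + T (T v) ∈ T.eigenspace 1 := by
      rw [Module.End.mem_eigenspace_iff, map_add, map_add, hT, one_smul]
      abel
    have e2 : v + (c ^ 2) • T v + c • T (T v) ∈ T.eigenspace c := by
      rw [Module.End.mem_eigenspace_iff, map_add, map_add, map_smul, map_smul, hT]
      linear_combination (norm := module) -h3' (T v)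
    have e3 : v + c • T v + (c ^ 2) • T (T v) ∈ T.eigenspace (c ^ 2) := by
      rw [Module.End.mem_eigenspace_iff, map_add, map_add, map_smul, map_smul, hT]
      linear_combination (norm := module) -h3' (T v) - (c) • h3' (T (T v))
    refine ⟨(⟨_, e1⟩, ⟨_, e2⟩, ⟨_, e3⟩), ?_⟩
    rw [hf]
    change (v + T v + T (T v)) + ((v + (c ^ 2) • T v + c • T (T v)) + (v + c • T v + (c ^ 2) • T (T v))) = v
    linear_combination (norm := module) h2 v + hsm (T v) + hsm (T (T v))
  have h := (LinearEquiv.ofBijective f ⟨hinj, hsurj⟩).finrank_eq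
  rw [Module.finrank_prod, Module.finrank_prod] at h
  rw [← h, ev, ev, ev]
  ring

omit [CharP F 2] in
theorem ev_shift {T S : Module.End F M} {c μ : F} (hS : Function.Injective S) (h : ∀ v, S (T v) = c • T (S v)) {d : F}
    (hcd : d * c = 1) : ev T μ ≤ ev T (d * μ) := by
  have hm : ∀ v ∈ T.eigenspace μ, S v ∈ T.eigenspace (d * μ) := by
    intro v hv
    rw [Module.End.mem_eigenspace_iff] at hv ⊢
    have h1 := h v
    rw [hv, map_smul] at h1
    rw [mul_smul, h1, smul_smul, hcd, one_smul]
  refine LinearMap.finrank_le_finrank_of_injective (f := S.restrict hm) ?_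
  intro a b e
  have e1 : S a = S b := congrArg Subtype.val e
  exact Subtype.ext (hS e1)

omit [FiniteDimensional F M] [CharP F 2] in
theorem rho_inj (ρ : Representation F P M) (g : P) : Function.Injective (ρ g) := by
  intro a b e
  have h : ∀ v, ρ g⁻¹ (ρ g v) = v := fun v => by
    rw [← Module.End.mul_apply, ← map_mul, inv_mul_cancel, map_one, Module.End.one_apply]
  rw [← h a, e, h]

theorem three_ev {ζ y : P} (ρ : Representation F P M) {c : F} (hc : Ch ρ ζ c) (hy : y ^ 3 = 1)
    (ht : ∃ b, b * y * b⁻¹ = ζ * y) : 3 * ev (ρ y) 1 = finrank F M := by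
  obtain ⟨b, hb⟩ := ht
  have hT : ∀ v, ρ y (ρ y (ρ y v)) = v := fun v => by
    rw [← Module.End.mul_apply, ← Module.End.mul_apply, ← map_mul, ← map_mul, ← pow_two, ← pow_succ, hy, map_one,
      Module.End.one_apply]
  have hb1 : b * y = ζ * (y * b) := by
    rw [← mul_assoc, ← hb]
    group
  have hb' : ∀ v, ρ b (ρ y v) = c • ρ y (ρ b v) := by
    intro v
    rw [← Module.End.mul_apply, ← map_mul, hb1, map_mul, Module.End.mul_apply, hc.act, map_mul, Module.End.mul_apply]
  have hcc : c ^ 2 * c = 1 := by rw [← pow_succ]; exact hc.cube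
  have h1 := ev_shift (μ := 1) (rho_inj ρ b) hb' hcc
  have h2 := ev_shift (μ := c ^ 2 * 1) (rho_inj ρ b) hb' hcc
  have h3 := ev_shift (μ := c ^ 2 * (c ^ 2 * 1)) (rho_inj ρ b) hb' hcc
  have e1 : c ^ 2 * (c ^ 2 * 1) = c := by linear_combination c * hc.cube
  have e2 : c ^ 2 * (c ^ 2 * (c ^ 2 * 1)) = 1 := by linear_combination (c ^ 3 + 1) * hc.cube
  rw [e2] at h3
  rw [e1] at h2 h3
  rw [mul_one] at h1 h2
  have h4 := split3 (ρ y) hc.ne hc.cube hT
  omega

omit [CharP F 2] [FiniteDimensional F M] in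
theorem inv_bot {ζ : P} (ρ : Representation F P M) {c : F} (hc : Ch ρ ζ c) : ρ.invariants = ⊥ := by
  rw [eq_bot_iff]
  intro v hv
  rw [Representation.mem_invariants] at hv
  have h1 := hv ζ
  rw [hc.act] at h1
  have h2 : (c - 1) • v = 0 := by rw [sub_smul, one_smul, h1, sub_self]
  rw [Submodule.mem_bot]
  exact (smul_eq_zero.1 h2).resolve_left (sub_ne_zero.2 hc.ne)

omit [CharP F 2] [FiniteDimensional F M] in
theorem dual_inv_bot {ζ : P} (ρ : Representation F P M) {c : F} (hc : Ch ρ ζ c) : ρ.dual.invariants = ⊥ := by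
  rw [eq_bot_iff]
  intro f hf
  rw [Representation.mem_invariants] at hf
  have h1 := hf ζ⁻¹
  rw [Submodule.mem_bot]
  ext v
  have h2 := LinearMap.congr_fun h1 v
  rw [Representation.dual_apply, Module.Dual.transpose_apply, inv_inv, LinearMap.comp_apply, hc.act, map_smul] at h2
  have h3 : (c - 1) • f v = 0 := by rw [sub_smul, one_smul, h2, sub_self]
  rw [LinearMap.zero_apply]
  exact (smul_eq_zero.1 h3).resolve_left (sub_ne_zero.2 hc.ne)

theorem ev_le {ζ z g₁ g₂ β t a : P} (hF : Full ζ z g₁ g₂ β t a) (ρ : Representation F P M) {c : F} (hc : Ch ρ ζ c) :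
    3 * ev (ρ z) 1 ≤ finrank F M := by
  have h1 := three_ev ρ hc hF.a3 hF.ta
  have h2 := three_ev ρ hc hF.a3' hF.ta'
  have h3 := Cfsg.Agent.H952.F4.Scott.scott ρ hF.gena
  rw [inv_bot ρ hc, dual_inv_bot ρ hc, finrank_bot, finrank_bot, mul_inv_cancel_left] at h3
  omega

/-- for an involution: the fixed space has at least half the dimension -/
theorem half_le (T : Module.End F M) (hT : ∀ v, T (T v) = v) : finrank F M ≤ 2 * ev T 1 := by
  have h1 := Cfsg.Agent.H952.F4.Scott.rank_add_ev T
  have h2 : LinearMap.range (T - 1) ≤ T.eigenspace 1 := by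
    rintro _ ⟨v, rfl⟩
    rw [Module.End.mem_eigenspace_iff, LinearMap.sub_apply, Module.End.one_apply, map_sub, hT, one_smul]
    have h3 : (2 : F) • (v - T v) = 0 := by
      rw [show (2 : F) = 0 from CharTwo.two_eq_zero, zero_smul]
    linear_combination (norm := module) h3
  have h4 := Submodule.finrank_mono h2
  have h5 : finrank F ↥(T.eigenspace 1) = ev T 1 := rfl
  omega

theorem even_sub {z t : P} (hz : z ^ 5 = 1) (ht : t * t = 1) (htz : t * z * t⁻¹ = z⁻¹) (ρ : Representation F P M) :
    Even (finrank F M - ev (ρ z) 1) := by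
  have h1 := Cfsg.Agent.H952.F4.Scott.rank_add_ev (ρ z)
  set N := LinearMap.range (ρ z - 1) with hN
  have hz5 : ∀ v, ρ z (ρ z (ρ z (ρ z (ρ z v)))) = v := by
    intro v
    have h' : z * z * z * z * z = 1 := by rw [← hz]; simp only [pow_succ, pow_zero, one_mul]
    rw [← Module.End.mul_apply, ← Module.End.mul_apply, ← Module.End.mul_apply, ← Module.End.mul_apply, ← map_mul,
      ← map_mul, ← map_mul, ← map_mul, h', map_one, Module.End.one_apply]
  have htt : ∀ v, ρ t (ρ t v) = v := fun v => by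
    rw [← Module.End.mul_apply, ← map_mul, ht, map_one, Module.End.one_apply]
  have hti : t⁻¹ = t := inv_eq_of_mul_eq_one_right ht
  have htz1 : t * z = z⁻¹ * t := by rw [← htz]; group
  have htz' : ∀ v, ρ z (ρ t (ρ z v)) = ρ t v := fun v => by
    rw [← Module.End.mul_apply (ρ t), ← map_mul, htz1, map_mul, Module.End.mul_apply, ← Module.End.mul_apply (ρ z),
      ← map_mul, mul_inv_cancel, map_one, Module.End.one_apply]
  have hNt : ∀ v ∈ N, ρ t v ∈ N := by
    rintro _ ⟨v, rfl⟩
    refine ⟨-(ρ t (ρ z v)), ?_⟩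
    rw [LinearMap.sub_apply, LinearMap.sub_apply, Module.End.one_apply, Module.End.one_apply, map_neg, htz', map_sub]
    abel
  have hNz : ∀ v ∈ N, ρ z v ∈ N := by
    rintro _ ⟨v, rfl⟩
    refine ⟨ρ z v, ?_⟩
    rw [LinearMap.sub_apply, LinearMap.sub_apply, Module.End.one_apply, Module.End.one_apply, map_sub]
  have hfix : ∀ b ∈ N, ρ z b = b → b = 0 := by
    rintro _ ⟨v, rfl⟩ hb
    set b := (ρ z - 1) v with hbdef
    have e0 : b = ρ z v - v := by rw [hbdef, LinearMap.sub_apply, Module.End.one_apply]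
    have e1 : ρ z v = v + b := by rw [e0]; abel
    have e2 := hz5 v
    simp only [e1, map_add, hb] at e2
    have h2 : ∀ v : M, (2 : F) • v = 0 := fun v => by
      rw [show (2 : F) = 0 from CharTwo.two_eq_zero, zero_smul]
    linear_combination (norm := module) e2 - (2 : F) • h2 b
  let S : Module.End F N := (ρ t).restrict hNt
  let R : Module.End F N := (ρ z).restrict hNz
  have hS : ∀ v, S (S v) = v := fun v => Subtype.ext (htt v)
  have h2 := half_le S hS
  let f : (↥(S.eigenspace 1) × ↥(S.eigenspace 1)) →ₗ[F] N :=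
    LinearMap.coprod (S.eigenspace 1).subtype (R.comp (S.eigenspace 1).subtype)
  have hinj : Function.Injective f := by
    rw [injective_iff_map_eq_zero]
    rintro ⟨⟨a, ha⟩, ⟨b, hb⟩⟩ h0
    change a + R b = 0 at h0
    rw [Module.End.mem_eigenspace_iff, one_smul] at ha hb
    have ha' : ρ t (a : M) = a := congrArg Subtype.val ha
    have hb' : ρ t (b : M) = b := congrArg Subtype.val hb
    have h0' : (a : M) + ρ z b = 0 := congrArg Subtype.val h0
    have e1 : (a : M) = -ρ z b := eq_neg_of_add_eq_zero_left h0'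
    -- `z² b = b`
    have e2 : ρ z (ρ z (b : M)) = b := by
      have e3 := htz' (b : M)
      rw [hb'] at e3
      have e4 : ρ t (ρ z (b : M)) = ρ z b := by
        have e5 : ρ t (-ρ z (b : M)) = -ρ z b := by rw [← e1, ha']
        rw [map_neg] at e5
        exact neg_injective e5
      rwa [e4] at e3
    have e3 : ρ z (b : M) = b := by
      have e4 := hz5 (b : M)
      rwa [e2, e2] at e4
    have e4 : (b : M) = 0 := hfix _ b.2 e3
    have e5 : b = 0 := Subtype.ext e4
    subst e5
    have e6 : a = 0 := by simpa using h0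
    subst e6
    rfl
  have h3 := LinearMap.finrank_le_finrank_of_injective hinj
  rw [Module.finrank_prod] at h3
  have h4 : finrank F ↥(S.eigenspace 1) = ev S 1 := rfl
  rw [h4] at h3
  exact ⟨ev S 1, by omega⟩

theorem xx_sq {z g : P} (hg : g * g = 1) : xx z g * xx z g = 1 := by
  have h1 : g⁻¹ = g := inv_eq_of_mul_eq_one_right hg
  have h2 : xx z g = (g * z * z) * g * (g * z * z)⁻¹ := by
    rw [xx, mul_inv_rev, mul_inv_rev, h1]
    group
  rw [h2]
  have h3 : (g * z * z) * g * (g * z * z)⁻¹ * ((g * z * z) * g * (g * z * z)⁻¹) =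
      (g * z * z) * (g * g) * (g * z * z)⁻¹ := by group
  rw [h3, hg]
  group

theorem fourfix {ζ z g β : P} (hh : Half ζ z g β) (ρ : Representation F P M) {c : F} (hc : Ch ρ ζ c)
    (h : finrank F M < 6 * ev (ρ z) 1) :
    (∃ w, w ≠ 0 ∧ KF ρ z g w) ∨
      ∃ f : Module.Dual F M, f ≠ 0 ∧ (∀ v, f (ρ z v) = f v) ∧ ∀ v, f (ρ (xx z g) v) = f v := by
  set x := xx z g with hx
  have hxx : x * x = 1 := xx_sq hh.gg
  let K : Subgroup P := Subgroup.closure {x, x * z}
  have hxK : x ∈ K := Subgroup.subset_closure (Or.inl rfl)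
  have hyK : x * z ∈ K := Subgroup.subset_closure (Or.inr rfl)
  have hgen : Subgroup.closure {(⟨x, hxK⟩ : K), ⟨x * z, hyK⟩} = ⊤ := by
    have h1 := Subgroup.closure_closure_coe_preimage (k := ({x, x * z} : Set P))
    rw [← h1]
    congr 1
    ext ⟨k, hk⟩
    simp only [Set.mem_insert_iff, Set.mem_singleton_iff, Set.mem_preimage, Subtype.mk.injEq]
  have h1 := Cfsg.Agent.H952.F4.Scott.scott (ρ.comp K.subtype) hgen
  have e1 : (ρ.comp K.subtype) ⟨x, hxK⟩ = ρ x := rfl
  have e2 : (ρ.comp K.subtype) ⟨x * z, hyK⟩ = ρ (x * z) := rfl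
  have e3 : (ρ.comp K.subtype) (⟨x, hxK⟩ * ⟨x * z, hyK⟩) = ρ z := by
    change ρ (x * (x * z)) = ρ z
    rw [← mul_assoc, hxx, one_mul]
  rw [e1, e2, e3] at h1
  have h2 := three_ev ρ hc hh.c3 hh.t3
  have h3 := half_le (ρ x) fun v => by
    rw [← Module.End.mul_apply, ← map_mul, hxx, map_one, Module.End.one_apply]
  have h4 : 0 < finrank F ↥(Representation.invariants (ρ.comp K.subtype)) ∨
      0 < finrank F ↥(Representation.invariants (Representation.dual (ρ.comp K.subtype))) := by
    rw [← hx] at h2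
    omega
  rcases h4 with h4 | h4
  · left
    have : Nontrivial ↥(Representation.invariants (ρ.comp K.subtype)) := Module.finrank_pos_iff.1 h4
    obtain ⟨⟨w, hw⟩, hne⟩ := exists_ne (0 : ↥(Representation.invariants (ρ.comp K.subtype)))
    rw [Representation.mem_invariants] at hw
    have hx1 : ρ x w = w := hw ⟨x, hxK⟩
    have hx2 : ρ (x * z) w = w := hw ⟨x * z, hyK⟩
    refine ⟨w, fun e => hne (Subtype.ext e), ?_, hx1⟩
    have h5 : ρ x (ρ (x * z) w) = ρ z w := by
      rw [← Module.End.mul_apply, ← map_mul, ← mul_assoc, hxx, one_mul]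
    rw [← h5, hx2, hx1]
  · right
    have : Nontrivial ↥(Representation.invariants (Representation.dual (ρ.comp K.subtype))) :=
      Module.finrank_pos_iff.1 h4
    obtain ⟨⟨f, hf⟩, hne⟩ := exists_ne (0 : ↥(Representation.invariants (Representation.dual (ρ.comp K.subtype))))
    rw [Representation.mem_invariants] at hf
    have key : ∀ k : K, ∀ v, f (ρ (k : P) v) = f v := by
      intro k v
      have h5 := LinearMap.congr_fun (hf k⁻¹) v
      rw [Representation.dual_apply, Module.Dual.transpose_apply, inv_inv, LinearMap.comp_apply] at h5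
      exact h5
    have hx1 : ∀ v, f (ρ x v) = f v := key ⟨x, hxK⟩
    have hx2 : ∀ v, f (ρ (x * z) v) = f v := key ⟨x * z, hyK⟩
    refine ⟨f, fun e => hne (Subtype.ext e), fun v => ?_, hx1⟩
    rw [← hx2 v, map_mul, Module.End.mul_apply, hx1]

end Abs

end Cfsg.Agent.H958.SixC
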