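import Cfsg.Agent.H801.SixS
import Cfsg.Agent.H333.E6Act
import Cfsg.Agent.H163.E6.Semi
import Cfsg.Agent.H952.F4.Jord

/-!
# S5928: `sixc_two`, BOX T (helper801)

`ev_ne_five` : in the twisted case the fixed space of an element of order 5 of `V` is not 5-dimensional.
-/

set_option autoImplicit false

namespace Cfsg.Agent.H958.SixC

open Module
open Cfsg.Agent.H952.F4 (ev es)

section Abs

variable {F M : Type*} [Field F] [AddCommGroup M] [Module F M]

/-- the kernel of `T² + s T + 1` -/
def Ns (T : Module.End F M) (s : F) : Submodule F M := LinearMap.ker (T * T + s • T + 1)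

theorem mem_Ns {T : Module.End F M} {s : F} {v : M} : v ∈ Ns T s ↔ T (T v) + s • T v + v = 0 := Iff.rfl

variable [FiniteDimensional F M] [CharP F 2]

omit [FiniteDimensional F M] in
theorem two_smul_zero (v : M) : (2 : F) • v = 0 := by
  rw [show (2 : F) = 0 from CharTwo.two_eq_zero, zero_smul]

/-- a subspace without fixed vectors of an element of order 5 inverted by an involution -/
theorem even_of {N : Submodule F M} {T R : Module.End F M} (hNT : ∀ v ∈ N, T v ∈ N) (hNR : ∀ v ∈ N, R v ∈ N)
    (hT5 : ∀ v, T (T (T (T (T v)))) = v) (hRR : ∀ v, R (R v) = v) (hTR : ∀ v, T (R (T v)) = R v)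
    (hfix : ∀ b ∈ N, T b = b → b = 0) : Even (finrank F N) := by
  let S : Module.End F N := R.restrict hNR
  let R' : Module.End F N := T.restrict hNT
  have hS : ∀ v, S (S v) = v := fun v => Subtype.ext (hRR v)
  have h2 := half_le S hS
  let f : (↥(S.eigenspace 1) × ↥(S.eigenspace 1)) →ₗ[F] N :=
    LinearMap.coprod (S.eigenspace 1).subtype (R'.comp (S.eigenspace 1).subtype)
  have hinj : Function.Injective f := by
    rw [injective_iff_map_eq_zero]
    rintro ⟨⟨a, ha⟩, ⟨b, hb⟩⟩ h0
    change a + R' b = 0 at h0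
    rw [Module.End.mem_eigenspace_iff, one_smul] at ha hb
    have ha' : R (a : M) = a := congrArg Subtype.val ha
    have hb' : R (b : M) = b := congrArg Subtype.val hb
    have h0' : (a : M) + T b = 0 := congrArg Subtype.val h0
    have e1 : (a : M) = -T b := eq_neg_of_add_eq_zero_left h0'
    have e2 : T (T (b : M)) = b := by
      have e3 := hTR (b : M)
      rw [hb'] at e3
      have e4 : R (T (b : M)) = T b := by
        have e5 : R (-T (b : M)) = -T b := by rw [← e1, ha']
        rw [map_neg] at e5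
        exact neg_injective e5
      rwa [e4] at e3
    have e3 : T (b : M) = b := by
      have e4 := hT5 (b : M)
      rwa [e2, e2] at e4
    have e4 : (b : M) = 0 := hfix _ b.2 e3
    have e5 : b = 0 := Subtype.ext e4
    subst e5
    have e6 : a = 0 := by simpa using h0
    subst e6
    rfl
  have h3 := LinearMap.finrank_le_finrank_of_injective hinj
  rw [Module.finrank_prod] at h3
  have h4 : finrank F ↥(S.eigenspace 1) = ev S 1 := rfl
  rw [h4] at h3
  exact ⟨ev S 1, by omega⟩

theorem even_Ns {T R : Module.End F M} (hT5 : ∀ v, T (T (T (T (T v)))) = v) (hRR : ∀ v, R (R v) = v)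
    (hTR : ∀ v, T (R (T v)) = R v) {s : F} (hs : s ^ 2 + s + 1 = 0) : Even (finrank F (Ns T s)) := by
  refine even_of (T := T) (R := R) ?_ ?_ hT5 hRR hTR ?_
  · intro v hv
    rw [mem_Ns] at hv ⊢
    have h := congrArg T hv
    rw [map_add, map_add, map_smul, map_zero] at h
    exact h
  · intro v hv
    rw [mem_Ns] at hv ⊢
    have h := congrArg (fun x => T (T (R x))) hv
    simp only [map_add, map_smul, map_zero] at h
    rw [hTR (T v), hTR v] at h
    linear_combination (norm := module) h
  · intro v hv hf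
    rw [mem_Ns, hf, hf] at hv
    have h1 : s • v = 0 := by linear_combination (norm := module) hv - two_smul_zero (F := F) v
    rcases smul_eq_zero.1 h1 with h2 | h2
    · rw [h2] at hs
      norm_num at hs
    · exact h2

theorem split5 {T : Module.End F M} (hT5 : ∀ v, T (T (T (T (T v)))) = v) {s : F} (hs : s ^ 2 + s + 1 = 0) :
    ev T 1 + finrank F (Ns T s) + finrank F (Ns T (s ^ 2)) = finrank F M := by
  have h2 : ∀ v : M, (2 : F) • v = 0 := two_smul_zero
  have hsm : ∀ v : M, (s ^ 2 + s + 1) • v = 0 := fun v => by rw [hs, zero_smul]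
  have h3 : s ^ 3 = 1 := by linear_combination (s - 1) * hs
  have h3m : ∀ v : M, (s ^ 3 - 1) • v = 0 := fun v => by rw [h3, sub_self, zero_smul]
  let f : (↥(T.eigenspace 1) × ↥(Ns T s) × ↥(Ns T (s ^ 2))) →ₗ[F] M :=
    LinearMap.coprod (T.eigenspace 1).subtype (LinearMap.coprod (Ns T s).subtype (Ns T (s ^ 2)).subtype)
  have hf : ∀ a b d, f (a, b, d) = (a : M) + ((b : M) + (d : M)) := fun a b d => rfl
  -- the sum of the powers kills `Ns`
  have hkill : ∀ (r : F), r ^ 2 + r + 1 = 0 → ∀ b ∈ Ns T r, b + T b + T (T b) + T (T (T b)) + T (T (T (T b))) = 0 := by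
    intro r hr b hb
    rw [mem_Ns] at hb
    have hb1 := congrArg T hb
    have hb2 := congrArg T hb1
    simp only [map_add, map_smul, map_zero] at hb1 hb2
    have hrm : ∀ v : M, (r ^ 2 + r + 1) • v = 0 := fun v => by rw [hr, zero_smul]
    linear_combination (norm := module) hb2 + (1 + r) • hb1 + hb - r • h2 (T (T (T b))) - hrm (T (T b)) - r • h2 (T b)
  have hs2 : (s ^ 2) ^ 2 + s ^ 2 + 1 = 0 := by linear_combination s * h3 + hs
  have hinj : Function.Injective f := by
    rw [injective_iff_map_eq_zero]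
    rintro ⟨⟨a, ha⟩, ⟨b, hb⟩, ⟨d, hd⟩⟩ h0
    rw [hf] at h0
    change a + (b + d) = 0 at h0
    rw [Module.End.mem_eigenspace_iff, one_smul] at ha
    have k1 := hkill s hs b hb
    have k2 := hkill _ hs2 d hd
    have e0 : a + (b + d) + T (a + (b + d)) + T (T (a + (b + d))) + T (T (T (a + (b + d)))) +
        T (T (T (T (a + (b + d))))) = 0 := by
      rw [h0]
      simp only [map_zero, add_zero]
    simp only [map_add, ha] at e0
    have ea : a = 0 := by
      linear_combination (norm := module) e0 - k1 - k2 - (2 : F) • h2 a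
    rw [ea, zero_add] at h0
    have hbd : d = -b := eq_neg_of_add_eq_zero_right h0
    have hbd' : b ∈ Ns T (s ^ 2) := by
      have := (Ns T (s ^ 2)).neg_mem hd
      rwa [hbd, neg_neg] at this
    rw [mem_Ns] at hb hbd'
    have e1 : (s - s ^ 2) • T b = 0 := by linear_combination (norm := module) hb - hbd'
    have e2 : s - s ^ 2 ≠ 0 := by
      intro h
      have h4 : s * (1 - s) = 0 := by linear_combination h
      rcases mul_eq_zero.1 h4 with h5 | h5
      · rw [h5] at hs; norm_num at hs
      · have h6 : s = 1 := (sub_eq_zero.1 h5).symm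
        rw [h6] at hs
        have h7 : (1 : F) = 0 := by
          have h8 : (2 : F) = 0 := CharTwo.two_eq_zero
          linear_combination hs - h8
        exact one_ne_zero h7
    have e3 : T b = 0 := (smul_eq_zero.1 e1).resolve_left e2
    have eb : b = 0 := by
      have := hT5 b
      rw [e3, map_zero, map_zero, map_zero, map_zero] at this
      exact this.symm
    have ed : d = 0 := by rw [hbd, eb, neg_zero]
    subst ea; subst eb; subst ed
    rfl
  have hsurj : Function.Surjective f := by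
    intro v
    have e1 : v + T v + T (T v) + T (T (T v)) + T (T (T (T v))) ∈ T.eigenspace 1 := by
      rw [Module.End.mem_eigenspace_iff]
      simp only [map_add, hT5, one_smul]
      abel
    have e2 : ∀ r : F, r ^ 2 + r + 1 = 0 →
        r • T v + (r ^ 2) • T (T v) + (r ^ 2) • T (T (T v)) + r • T (T (T (T v))) ∈ Ns T r := by
      intro r hr
      have hrm : ∀ v : M, (r ^ 2 + r + 1) • v = 0 := fun v => by rw [hr, zero_smul]
      have hr3 : r ^ 3 = 1 := by linear_combination (r - 1) * hr
      have hr3m : ∀ v : M, (r ^ 3 - 1) • v = 0 := fun v => by rw [hr3, sub_self, zero_smul]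
      rw [mem_Ns]
      simp only [map_add, map_smul, hT5]
      linear_combination (norm := module) (r ^ 2) • h2 v + r • h2 (T v) + (r ^ 2) • h2 (T (T v)) +
        hrm (T (T (T v))) + hr3m (T (T (T v))) + hrm (T (T (T (T v)))) + hr3m (T (T (T (T v))))
    refine ⟨(⟨_, e1⟩, ⟨_, e2 s hs⟩, ⟨_, e2 (s ^ 2) hs2⟩), ?_⟩
    rw [hf]
    change (v + T v + T (T v) + T (T (T v)) + T (T (T (T v)))) +
      ((s • T v + (s ^ 2) • T (T v) + (s ^ 2) • T (T (T v)) + s • T (T (T (T v)))) +
      ((s ^ 2) • T v + ((s ^ 2) ^ 2) • T (T v) + ((s ^ 2) ^ 2) • T (T (T v)) + (s ^ 2) • T (T (T (T v))))) = v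
    linear_combination (norm := module) hsm (T v) + hsm (T (T v)) + hsm (T (T (T v))) + hsm (T (T (T (T v)))) +
      s • h3m (T (T v)) + s • h3m (T (T (T v)))
  have h := (LinearEquiv.ofBijective f ⟨hinj, hsurj⟩).finrank_eq
  rw [Module.finrank_prod, Module.finrank_prod] at h
  rw [← h, ev]
  ring

omit [CharP F 2] in
/-- the adjoint of the inverse has the same kernels -/
theorem Ns_le {M' : Type*} [AddCommGroup M'] [Module F M'] [FiniteDimensional F M'] (hd : finrank F M = finrank F M')
    (B : M' →ₗ[F] Module.Dual F M) (hB : Function.Injective B) {T : Module.End F M} {T' : Module.End F M'}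
    (hT : ∀ x y, B (T' y) (T x) = B y x) (s : F) : finrank F (Ns T s) ≤ finrank F (Ns T' s) := by
  set A := T * T + s • T + 1 with hA
  set A' := T' * T' + s • T' + 1 with hA'
  have h1 : (LinearMap.range A').map B ≤ LinearMap.range (A.dualMap) := by
    rintro _ ⟨_, ⟨y, rfl⟩, rfl⟩
    refine ⟨B (T' (T' y)), ?_⟩
    ext x
    have e1 : A x = T (T x) + s • T x + x := rfl
    have e2 : A' y = T' (T' y) + s • T' y + y := rfl
    rw [LinearMap.dualMap_apply, e1, e2, map_add, map_add, map_smul, map_add, map_add, map_smul, hT, hT, hT]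
    simp only [LinearMap.add_apply, LinearMap.smul_apply]
    ring
  have h2 := Submodule.finrank_mono h1
  rw [LinearMap.finrank_range_dualMap_eq_finrank_range,
    ← (Submodule.equivMapOfInjective B hB (LinearMap.range A')).finrank_eq] at h2
  have h3 := LinearMap.finrank_range_add_finrank_ker A
  have h4 := LinearMap.finrank_range_add_finrank_ker A'
  have h5 : finrank F (Ns T s) = finrank F (LinearMap.ker A) := rfl
  have h6 : finrank F (Ns T' s) = finrank F (LinearMap.ker A') := rfl
  omega

end Abs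

end Cfsg.Agent.H958.SixC

namespace Cfsg.Agent.H163.E6.SixC

open Cfsg Cfsg.Lie Module
open Cfsg.Agent.ChevalleyStructure.E6Min.Tables Cfsg.Agent.ChevalleyStructure.E6Min.Basic
  Cfsg.Agent.ChevalleyStructure.E6Min.Adjoint
open Cfsg.Agent.H952.F4 (ev es matRep sh cr tf MaxAlt)
open Cfsg.Agent.H958.SixC

universe u

variable {F : Type u} [Field F] [Finite F] [CharP F 2]

omit [Finite F] [CharP F 2] in
theorem Ns_V_le (z : ↥(Zgrp F)) (s : F) : finrank F (Ns (V F z) s) ≤ finrank F (Ns (V' F z) s) := by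
  let B : (I27 → F) →ₗ[F] Module.Dual F (I27 → F) :=
    LinearMap.mk₂ F (fun y x => tf x y) (fun y y' x => Cfsg.Agent.H952.F4.Jord.tf_add_right x y y')
      (fun c y x => Cfsg.Agent.H952.F4.Jord.tf_smul_right c x y)
      (fun y x x' => Cfsg.Agent.H952.F4.Jord.tf_add_left x x' y) (fun c y x => Cfsg.Agent.H952.F4.Jord.tf_smul_left c x y)
  refine Ns_le rfl B ?_ (fun x y => Act.tf_act z x y) s
  rw [injective_iff_map_eq_zero]
  intro y hy
  refine Cfsg.Agent.H952.F4.Jord.tf_nondeg fun x => ?_
  rw [Cfsg.Agent.H952.F4.Jord.tf_comm]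
  exact LinearMap.congr_fun hy x

omit [CharP F 2] in
theorem Ns_semi {q : ℕ} {A : Type*} [Group A] {φ : A →* ↥(chevE6.group F)} (hJ : Semi q φ) {z : ↥(Zgrp F)}
    (hz : z ∈ Bgrp φ) (s : F) : finrank F (Ns (V' F z) s) ≤ finrank F (Ns (V F z) (s ^ q)) := by
  obtain ⟨J, hadd, hsmul, hJJ, -, -, -, -, hV⟩ := hJ
  have h0 : J 0 = 0 := by
    have := hadd 0 0
    rw [add_zero] at this
    exact left_eq_add.1 this
  have hm : ∀ x ∈ Ns (V' F z) s, J x ∈ Ns (V F z) (s ^ q) := by
    intro x hx
    rw [mem_Ns] at hx ⊢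
    rw [(hV z hz x).1, (hV z hz _).1, ← hsmul, ← hadd, ← hadd, hx, h0]
  have h1 : Nat.card (Ns (V' F z) s) ≤ Nat.card (Ns (V F z) (s ^ q)) := by
    refine Nat.card_le_card_of_injective (fun x : Ns (V' F z) s => (⟨J x, hm x x.2⟩ : Ns (V F z) (s ^ q))) ?_
    intro x y e
    have e1 : J x = J y := congrArg Subtype.val e
    apply Subtype.ext
    rw [← hJJ x, e1, hJJ]
  rw [Module.natCard_eq_pow_finrank (K := F) (V := ↥(Ns (V' F z) s)),
    Module.natCard_eq_pow_finrank (K := F) (V := ↥(Ns (V F z) (s ^ q)))] at h1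
  exact (Nat.pow_le_pow_iff_right Finite.one_lt_card).1 h1

/-- **BOX T.** -/
theorem ev_ne_five {φ : ↥(alternatingGroup (Fin 6)) →* ↥(chevE6.group F)} {q : ℕ} (hJ : Semi q φ) {ω : Fˣ}
    (h1 : ω ≠ 1) (h3 : ω ^ 3 = 1) (hq : ω ^ (q + 1) = 1) {z t : ↥(Zgrp F)} (hz : z ∈ Bgrp φ) (hz5 : z ^ 5 = 1)
    (ht : t * t = 1) (htz : t * z * t⁻¹ = z⁻¹) : ev (V F z) 1 ≠ 5 := by
  set s : F := (ω : F) with hs
  have hs1 : s ≠ 1 := fun h => h1 (Units.ext h)
  have hs3 : s ^ 3 = 1 := by rw [hs, ← Units.val_pow_eq_pow_val, h3, Units.val_one]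
  have hss := cube_sum hs1 hs3
  have hs2 : (s ^ 2) ^ 2 + s ^ 2 + 1 = 0 := by linear_combination s * hs3 + hss
  have hsq1 : s ^ q * s = 1 := by rw [← pow_succ, hs, ← Units.val_pow_eq_pow_val, hq, Units.val_one]
  have hsq : s ^ q = s ^ 2 := by
    have : s ^ q = s ^ q * s * s ^ 2 := by
      rw [mul_assoc, ← pow_succ', hs3, mul_one]
    rw [this, hsq1, one_mul]
  have hsq2 : (s ^ 2) ^ q = s := by
    rw [← pow_mul, mul_comm, pow_mul, hsq, ← pow_mul]
    linear_combination s * hs3
  have hT5 : ∀ v, V F z (V F z (V F z (V F z (V F z v)))) = v := by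
    intro v
    have h' : z * z * z * z * z = 1 := by rw [← hz5]; simp only [pow_succ, pow_zero, one_mul]
    rw [← Module.End.mul_apply, ← Module.End.mul_apply, ← Module.End.mul_apply, ← Module.End.mul_apply, ← map_mul,
      ← map_mul, ← map_mul, ← map_mul, h', map_one, Module.End.one_apply]
  have htt : ∀ v, V F t (V F t v) = v := fun v => by
    rw [← Module.End.mul_apply, ← map_mul, ht, map_one, Module.End.one_apply]
  have htz1 : t * z = z⁻¹ * t := by rw [← htz]; group
  have htz' : ∀ v, V F z (V F t (V F z v)) = V F t v := fun v => by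
    rw [← Module.End.mul_apply (V F t), ← map_mul, htz1, map_mul, Module.End.mul_apply,
      ← Module.End.mul_apply (V F z), ← map_mul, mul_inv_cancel, map_one, Module.End.one_apply]
  have e1 := even_Ns hT5 htt htz' hss
  have e3 := split5 hT5 hss
  have a1 := (Ns_V_le z s).trans (Ns_semi hJ hz s)
  have a2 := (Ns_V_le z (s ^ 2)).trans (Ns_semi hJ hz (s ^ 2))
  rw [hsq] at a1
  rw [hsq2] at a2
  have hd : finrank F (I27 → F) = 27 := by
    rw [Module.finrank_pi]
    decide
  rw [hd] at e3
  obtain ⟨k, hk⟩ := e1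
  omega

end Cfsg.Agent.H163.E6.SixC
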