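import Cfsg.Agent.H801.Reduct

/-!
# The reduction to constrained systems: minimal non-inner systems are constrained (helper801)
-/

set_option autoImplicit false

namespace Cfsg.Agent.H801

open Cfsg Cfsg.FusionSystem Cfsg.Agent.H802

universe u

variable {Ω : Type u} [Group Ω] {S : Subgroup Ω}

/-- The automorphisms of `Q` preserving `Z` and acting on `Q/Z` as elements of `S`. -/
theorem exists_kGrp {Q Z : Subgroup Ω} (hSZ : S ≤ Subgroup.normalizer (Z : Set Ω))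
    (hSQ : S ≤ Subgroup.normalizer (Q : Set Ω)) :
    ∃ K : Subgroup (MulAut Q), ∀ a : MulAut Q, a ∈ K ↔
      (∀ x : Q, (x : Ω) ∈ Z ↔ ((a x : Q) : Ω) ∈ Z) ∧
      ∃ s ∈ S, ∀ x : Q, (s * (x : Ω) * s⁻¹)⁻¹ * ((a x : Q) : Ω) ∈ Z := by
  have hZc : ∀ s ∈ S, ∀ z ∈ Z, s * z * s⁻¹ ∈ Z := fun s hs z hz =>
    (Subgroup.mem_normalizer_iff.1 (hSZ hs) z).1 hz
  have hZc' : ∀ s ∈ S, ∀ z ∈ Z, s⁻¹ * z * s ∈ Z := fun s hs z hz => by
    have := hZc s⁻¹ (S.inv_mem hs) z hz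
    simpa using this
  have hQc : ∀ s ∈ S, ∀ z ∈ Q, s * z * s⁻¹ ∈ Q := fun s hs z hz =>
    (Subgroup.mem_normalizer_iff.1 (hSQ hs) z).1 hz
  refine ⟨{ carrier := {a | (∀ x : Q, (x : Ω) ∈ Z ↔ ((a x : Q) : Ω) ∈ Z) ∧
              ∃ s ∈ S, ∀ x : Q, (s * (x : Ω) * s⁻¹)⁻¹ * ((a x : Q) : Ω) ∈ Z}
            mul_mem' := ?_, one_mem' := ?_, inv_mem' := ?_ }, fun a => Iff.rfl⟩
  · rintro a b ⟨ha, s, hs, hsa⟩ ⟨hb, t, ht, htb⟩
    refine ⟨fun x => (hb x).trans (ha (b x)), s * t, S.mul_mem hs ht, fun x => ?_⟩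
    have hy : t * (x : Ω) * t⁻¹ ∈ Q := hQc t ht x x.2
    set y : Q := ⟨t * (x : Ω) * t⁻¹, hy⟩ with hydef
    -- `b x = y z`
    have hz : ((y⁻¹ * b x : Q) : Ω) ∈ Z := htb x
    have haz : ((a (y⁻¹ * b x) : Q) : Ω) ∈ Z := (ha _).1 hz
    have hay := hsa y
    have e : (s * t * (x : Ω) * (s * t)⁻¹)⁻¹ * (((a * b) x : Q) : Ω) =
        ((s * (y : Ω) * s⁻¹)⁻¹ * ((a y : Q) : Ω)) * ((a (y⁻¹ * b x) : Q) : Ω) := by
      rw [map_mul, map_inv, MulAut.mul_apply]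
      show _ = ((s * (t * (x : Ω) * t⁻¹) * s⁻¹)⁻¹ * ((a y : Q) : Ω)) *
        (((a y : Q) : Ω)⁻¹ * ((a (b x) : Q) : Ω))
      group
    rw [e]
    exact Z.mul_mem hay haz
  · exact ⟨fun x => Iff.rfl, 1, S.one_mem, fun x => by simp⟩
  · rintro a ⟨ha, s, hs, hsa⟩
    refine ⟨fun x => ?_, s⁻¹, S.inv_mem hs, fun x => ?_⟩
    · have := ha (a⁻¹ x)
      have h3 : a (a⁻¹ x) = x := a.apply_symm_apply x
      rw [h3] at this
      exact this.symm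
    · have h1 := hsa (a⁻¹ x)
      have h3 : a (a⁻¹ x) = x := a.apply_symm_apply x
      rw [h3] at h1
      -- `z = (s (a⁻¹x) s⁻¹)⁻¹ x`
      have h4 := hZc' s hs _ (Z.inv_mem h1)
      have e : (s⁻¹ * (x : Ω) * s⁻¹⁻¹)⁻¹ * ((a⁻¹ x : Q) : Ω) =
          s⁻¹ * ((s * ((a⁻¹ x : Q) : Ω) * s⁻¹)⁻¹ * (x : Ω))⁻¹ * s := by
        group
      rw [e]
      exact h4

/-- The saturated subsystem of the maps acting on `Q/Z`, `Q` normal in the system, as elements of `S`. -/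
theorem exists_kSystem {p : ℕ} [Fact p.Prime] [Finite S] (hS : IsPGroup p S)
    {F : FusionSystem S} (hF : F.IsSaturated p) {Q Z : Subgroup Ω} (hQ : F.IsNormal Q)
    (hSZ : S ≤ Subgroup.normalizer (Z : Set Ω)) :
    ∃ E : FusionSystem S, E.IsSaturated p ∧ E ≤ F ∧
      (∀ (P : Subgroup Ω) (φ : P →* Ω), φ ∈ E.Hom P → ∃ ψ ∈ F.Hom (P ⊔ Q),
        (∀ x : P, ψ (Subgroup.inclusion le_sup_left x) = φ x) ∧
        ∃ s ∈ S, ∀ x : Q, (s * (x : Ω) * s⁻¹)⁻¹ * ψ (Subgroup.inclusion le_sup_right x) ∈ Z) ∧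
      (∀ (P : Subgroup Ω) (φ : P →* Ω), P ≤ S → (∀ x : P, φ x ∈ S) → ∀ ψ ∈ F.Hom (P ⊔ Q),
        (∀ x : P, ψ (Subgroup.inclusion le_sup_left x) = φ x) →
        (∀ x : Q, (x : Ω) ∈ Z ↔ ψ (Subgroup.inclusion le_sup_right x) ∈ Z) →
        ∀ s ∈ S, (∀ x : Q, (s * (x : Ω) * s⁻¹)⁻¹ * ψ (Subgroup.inclusion le_sup_right x) ∈ Z) →
        φ ∈ E.Hom P) := by
  have hSQ : S ≤ Subgroup.normalizer (Q : Set Ω) := le_normalizer_of_isNormal hQ
  obtain ⟨K, hK⟩ := exists_kGrp hSZ hSQ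
  have hfQ : Finite Q := finite_of_le hQ.1
  have hSK : autInducedBy S Q ≤ K := by
    intro a ha
    obtain ⟨s, hs, hse⟩ := (mem_autInducedBy_iff S Q a).1 ha
    rw [hK]
    refine ⟨fun x => ?_, s, hs, fun x => ?_⟩
    · rw [hse x]
      exact Subgroup.mem_normalizer_iff.1 (hSZ hs) _
    · rw [hse x, inv_mul_cancel]
      exact Z.one_mem
  have hkS : kNorm S Q K = S := by
    refine le_antisymm (kNorm_le S Q K) fun s hs => ?_
    rw [mem_kNorm_iff]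
    obtain ⟨α, hα⟩ := exists_conjAut (hSQ hs)
    exact ⟨hs, α, hSK ((mem_autInducedBy_iff S Q α).2 ⟨s, hs, hα⟩), hα⟩
  have hfn := isFullyNormalized_of_isNormal hQ
  have hgood : GoodK p F Q K := by
    refine ⟨isReceptive_of_isFullyNormalized hS hF hfn, ?_⟩
    have h1 : autInducedBy S Q ⊓ K = autInducedBy S Q := inf_eq_left.2 hSK
    rw [h1]
    exact (sylIn_of_isFullyAutomized hS (isFullyAutomized_of_isFullyNormalized hS hF hfn)).mono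
      (le_inf (autInducedBy_le_autGroup F hQ.1) hSK) inf_le_left
  have hsat := kNormSystem_isSaturated hS hF hQ.1 hgood
  refine ⟨castSystem hkS (kNormSystem F hQ.1 K), isSaturated_cast hkS hsat, ?_, ?_, ?_⟩
  · intro P φ hφ
    rw [castSystem_hom] at hφ
    exact mem_of_mem_kNormHom hφ
  · intro P φ hφ
    rw [castSystem_hom] at hφ
    obtain ⟨h1, h2, ψ, hψ, h3, α, hα, h4⟩ := hφ
    obtain ⟨-, s, hs, h5⟩ := (hK α).1 hα
    refine ⟨ψ, hψ, h3, s, hs, fun x => ?_⟩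
    rw [h4 x]
    exact h5 x
  · intro P φ hPS hφS ψ hψ h3 h4 s hs h5
    rw [castSystem_hom]
    refine ⟨hkS.symm ▸ hPS, fun x => hkS.symm ▸ hφS x, ψ, hψ, h3, ?_⟩
    -- the restriction of `ψ` to `Q`
    have hψQ : ψ.comp (Subgroup.inclusion (le_sup_right : Q ≤ P ⊔ Q)) ∈ F.Hom Q :=
      restrict_mem hψ le_sup_right
    have hQsc := H759.IsNormal.stronglyClosed hQ
    obtain ⟨α, hα, hαe⟩ := exists_aut hψQ (range_eq_of_mapsTo hψQ (fun x =>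
      hQsc.2 Q le_rfl _ hψQ x))
    refine ⟨α, (hK α).2 ⟨fun x => ?_, s, hs, fun x => ?_⟩, fun x => (hαe x).symm⟩
    · rw [hαe x]
      exact h4 x
    · rw [hαe x]
      exact h5 x

/-- Extension of an automorphism to `R ⊔ Q`, `Q` normal in the system. -/
theorem exists_extend_aut [Finite S] {F : FusionSystem S}
    {Z : Subgroup Ω} (hZ : F.IsNormal Z) {R : Subgroup Ω} (hR : R ≤ S) {α : MulAut R}
    (hα : α ∈ F.autGroup R) :
    ∃ β ∈ F.autGroup (R ⊔ Z),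
      (∀ x : R, ((β ⟨x, le_sup_left (a := R) x.2⟩ : ↥(R ⊔ Z)) : Ω) = (α x : R)) := by
  obtain ⟨ψ, hψ, h1, h2⟩ := hZ.2 R _ ((mem_autGroup_iff F hR α).1 hα)
  have hsup : R ⊔ Z ≤ S := sup_le hR hZ.1
  have hfin : Finite ↥(R ⊔ Z) := finite_of_le hsup
  have hmap : ∀ x : ↥(R ⊔ Z), ψ x ∈ R ⊔ Z := by
    refine mem_of_sup ?_ ?_
    · intro x
      rw [h1]
      exact (le_sup_left : R ≤ R ⊔ Z) (α x).2
    · intro x
      exact (le_sup_right : Z ≤ R ⊔ Z) (h2.le ⟨_, x.2, rfl⟩)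
  obtain ⟨β₀, hβ₀, hβ₀e⟩ := exists_aut hψ (range_eq_of_mapsTo hψ hmap)
  refine ⟨β₀, hβ₀, fun x => ?_⟩
  rw [hβ₀e]
  exact h1 x

/-- If a `p'`-automorphism of `Q` acts on `Q/Z` as an element of `p`-power order does and is trivial on `Z`, it is
trivial. -/
theorem eq_one_of_act {p : ℕ} {Q Z : Subgroup Ω} (hQ : IsPGroup p Q)
    (hZQ : Z ≤ Q)
    {a : MulAut Q} (ha : (orderOf a).Coprime p) (h1 : ∀ x : Q, (x : Ω) ∈ Z → a x = x)
    {s : Ω} (hs : ∃ k : ℕ, s ^ p ^ k = 1) (hsZ : s ∈ Subgroup.normalizer (Z : Set Ω))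
    (hsQ : s ∈ Subgroup.normalizer (Q : Set Ω))
    (h2 : ∀ x : Q, (s * (x : Ω) * s⁻¹)⁻¹ * ((a x : Q) : Ω) ∈ Z) : a = 1 := by
  obtain ⟨k, hk⟩ := hs
  have hpow : ∀ n : ℕ, ∀ x : Q, (s ^ n * (x : Ω) * (s ^ n)⁻¹)⁻¹ * (((a ^ n) x : Q) : Ω) ∈ Z := by
    intro n
    induction n with
    | zero => intro x; simp
    | succ n ih =>
      intro x
      -- `a x = (s x s⁻¹) z`
      have hy : s * (x : Ω) * s⁻¹ ∈ Q := (Subgroup.mem_normalizer_iff.1 hsQ _).1 x.2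
      set y : Q := ⟨s * (x : Ω) * s⁻¹, hy⟩ with hydef
      have hz : ((y⁻¹ * a x : Q) : Ω) ∈ Z := h2 x
      have haz : (a ^ n) (y⁻¹ * a x) = y⁻¹ * a x := by
        have : ∀ m : ℕ, (a ^ m) (y⁻¹ * a x) = y⁻¹ * a x := by
          intro m
          induction m with
          | zero => rfl
          | succ m ihm => rw [pow_succ', MulAut.mul_apply, ihm, h1 _ hz]
        exact this n
      have h4 := ih y
      have e : (s ^ (n + 1) * (x : Ω) * (s ^ (n + 1))⁻¹)⁻¹ * (((a ^ (n + 1)) x : Q) : Ω) =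
          ((s ^ n * (y : Ω) * (s ^ n)⁻¹)⁻¹ * (((a ^ n) y : Q) : Ω)) *
            (((a ^ n) (y⁻¹ * a x) : Q) : Ω) := by
        rw [map_mul, map_inv, pow_succ a n, MulAut.mul_apply, pow_succ s n]
        show _ = ((s ^ n * (s * (x : Ω) * s⁻¹) * (s ^ n)⁻¹)⁻¹ * (((a ^ n) y : Q) : Ω)) *
          ((((a ^ n) y : Q) : Ω)⁻¹ * (((a ^ n) (a x) : Q) : Ω))
        group
      rw [e, haz]
      exact Z.mul_mem h4 hz
  have hc : a ^ p ^ k = 1 := by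
    have hord : (orderOf (a ^ p ^ k)).Coprime p :=
      Nat.Coprime.coprime_dvd_left (orderOf_pow_dvd (p ^ k)) ha
    refine eq_one_of_fix hQ hord (fun x hx => ?_) (fun x => ?_) (Z := Z)
    · have : ∀ m : ℕ, (a ^ m) x = x := by
        intro m
        induction m with
        | zero => rfl
        | succ m ihm => rw [pow_succ', MulAut.mul_apply, ihm, h1 x hx]
      exact this _
    · have := hpow (p ^ k) x
      rw [hk] at this
      simpa using this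
  have h5 : orderOf a ∣ p ^ k := orderOf_dvd_of_pow_eq_one hc
  exact orderOf_eq_one_iff.1 (Nat.eq_one_of_dvd_coprimes (Nat.Coprime.pow_right k ha) dvd_rfl h5)

/-- **Steps 2-4.** A minimal non-inner saturated system which has a normal subgroup larger than the maximal `Z`, is
constrained. -/
theorem isConstrained_of_minimal {p : ℕ} [Fact p.Prime] [Finite S] (hS : IsPGroup p S)
    {F : FusionSystem S} (hF : F.IsSaturated p)
    (hmin : ∀ E : FusionSystem S, E.IsSaturated p → E ≤ F →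
      (¬ ∀ P : Subgroup Ω, E.Hom P = (innerFusionSystem S).Hom P) → ∀ P, E.Hom P = F.Hom P)
    {Z : Subgroup Ω} (hZ : HypZ F p Z) (hZmax : ∀ Z' : Subgroup Ω, HypZ F p Z' → Z ≤ Z' → Z' = Z)
    {Q₁ : Subgroup Ω} (hQ₁ : F.IsNormal Q₁) (hZQ₁ : Z < Q₁) : F.IsConstrained p := by
  set Q := F.core with hQdef
  have hQ : F.IsNormal Q := H759.isNormal_core
  have hZQ : Z < Q := lt_of_lt_of_le hZQ₁ (H759.IsNormal.le_core hQ₁)
  have hQS : Q ≤ S := hQ.1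
  have hZS : Z ≤ S := hZ.1.1
  have hfQ : Finite Q := finite_of_le hQS
  have hQp : IsPGroup p Q := isPGroup_of_le hS hQS
  have hQsc := H759.IsNormal.stronglyClosed hQ
  have hZsc := H759.IsNormal.stronglyClosed hZ.1
  have hSZ : S ≤ Subgroup.normalizer (Z : Set Ω) := le_normalizer_of_isNormal hZ.1
  have hSQ : S ≤ Subgroup.normalizer (Q : Set Ω) := le_normalizer_of_isNormal hQ
  obtain ⟨E, hEs, hEF, hE1, hE2⟩ := exists_kSystem hS hF hQ hSZ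
  have hSpow : ∀ s ∈ S, ∃ k : ℕ, s ^ p ^ k = 1 := by
    intro s hs
    obtain ⟨k, hk⟩ := hS ⟨s, hs⟩
    exact ⟨k, by simpa using congrArg Subtype.val hk⟩
  -- `E` is inner
  have hEinner : ∀ P : Subgroup Ω, E.Hom P = (innerFusionSystem S).Hom P := by
    by_contra hnon
    have hEeq := hmin E hEs hEF hnon
    apply hZQ.ne'
    refine hZmax Q ⟨hQ, ?_⟩ hZQ.le
    by_contra hnp
    obtain ⟨⟨a, haF⟩, ha1, hap⟩ := exists_pprime_of_not_isPGroup hnp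
    rw [Subgroup.orderOf_mk] at hap
    apply ha1
    apply Subtype.ext
    have h1 := (mem_autGroup_iff F hQS a).1 haF
    rw [← hEeq Q] at h1
    obtain ⟨ψ, hψ, h2, s, hs, h3⟩ := hE1 Q _ h1
    refine eq_one_of_act hQp hZQ.le hap (fun x hx => hZ.fix hQS haF hap x hx) (hSpow s hs) (hSZ hs)
      (hSQ hs) (fun x => ?_)
    have h4 := h3 x
    have h5 := h2 x
    have h6 : Subgroup.inclusion (le_sup_right : Q ≤ Q ⊔ Q) x =
      Subgroup.inclusion (le_sup_left : Q ≤ Q ⊔ Q) x := rfl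
    rw [h6, h5] at h4
    exact h4
  -- the subgroup `D`
  obtain ⟨D, hD⟩ : ∃ D : Subgroup Ω, ∀ s, s ∈ D ↔ s ∈ S ∧ ∀ x ∈ Q, x⁻¹ * (s * x * s⁻¹) ∈ Z := by
    refine ⟨{ carrier := {s | s ∈ S ∧ ∀ x ∈ Q, x⁻¹ * (s * x * s⁻¹) ∈ Z}
              mul_mem' := ?_, one_mem' := ?_, inv_mem' := ?_ }, fun s => Iff.rfl⟩
    · rintro a b ⟨ha, ha'⟩ ⟨hb, hb'⟩
      refine ⟨S.mul_mem ha hb, fun x hx => ?_⟩
      have hbx : b * x * b⁻¹ ∈ Q := (Subgroup.mem_normalizer_iff.1 (hSQ hb) _).1 hx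
      have e : x⁻¹ * (a * b * x * (a * b)⁻¹) =
          (x⁻¹ * (b * x * b⁻¹)) * ((b * x * b⁻¹)⁻¹ * (a * (b * x * b⁻¹) * a⁻¹)) := by group
      rw [e]
      exact Z.mul_mem (hb' x hx) (ha' _ hbx)
    · exact ⟨S.one_mem, fun x _ => by simp⟩
    · rintro a ⟨ha, ha'⟩
      refine ⟨S.inv_mem ha, fun x hx => ?_⟩
      have hax : a⁻¹ * x * a ∈ Q := by
        have := (Subgroup.mem_normalizer_iff.1 (hSQ (S.inv_mem ha)) _).1 hx
        simpa using this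
      have h1 := Z.inv_mem (ha' _ hax)
      have e : x⁻¹ * (a⁻¹ * x * a⁻¹⁻¹) =
          ((a⁻¹ * x * a)⁻¹ * (a * (a⁻¹ * x * a) * a⁻¹))⁻¹ := by group
      rw [e]
      exact h1
  have hDS : D ≤ S := fun s hs => ((hD s).1 hs).1
  have hDQ : D ⊔ Q ≤ S := sup_le hDS hQS
  have hmemDQ : ∀ g ∈ D ⊔ Q, ∃ d ∈ D, ∃ q ∈ Q, d * q = g := fun g hg =>
    (H759.mem_sup_of_normalizes (hDS.trans hSQ)).1 hg
  -- action of `g ∈ D Q` on `Q / Z`
  have hact : ∀ g ∈ D ⊔ Q, ∃ q ∈ Q, ∀ x ∈ Q, (q * x * q⁻¹)⁻¹ * (g * x * g⁻¹) ∈ Z := by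
    intro g hg
    obtain ⟨d, hd, q, hq, rfl⟩ := hmemDQ g hg
    refine ⟨q, hq, fun x hx => ?_⟩
    have hqx : q * x * q⁻¹ ∈ Q := Q.mul_mem (Q.mul_mem hq hx) (Q.inv_mem hq)
    have := ((hD d).1 hd).2 _ hqx
    have e : (q * x * q⁻¹)⁻¹ * (d * q * x * (d * q)⁻¹) =
        (q * x * q⁻¹)⁻¹ * (d * (q * x * q⁻¹) * d⁻¹) := by group
    rwa [e]
  -- `D Q` is strongly closed
  have hDsc : F.StronglyClosed (D ⊔ Q) := by
    refine ⟨hDQ, fun R hR φ hφ x => ?_⟩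
    obtain ⟨ψ, hψ, h1, h2⟩ := hQ.2 R φ hφ
    obtain ⟨d, hd, q, hq, hdq⟩ := hmemDQ x (hR x.2)
    have hq' : q ∈ R ⊔ Q := (le_sup_right : Q ≤ R ⊔ Q) hq
    have hx' : (x : Ω) ∈ R ⊔ Q := (le_sup_left : R ≤ R ⊔ Q) x.2
    have hd' : d ∈ R ⊔ Q := by
      have : d = (x : Ω) * q⁻¹ := by rw [← hdq]; group
      rw [this]
      exact (R ⊔ Q).mul_mem hx' ((R ⊔ Q).inv_mem hq')
    have hφx : φ x = ψ ⟨d, hd'⟩ * ψ ⟨q, hq'⟩ := by
      rw [← h1 x, ← map_mul]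
      congr 1
      exact Subtype.ext hdq.symm
    rw [hφx]
    refine Subgroup.mul_mem_sup ?_ ?_
    · rw [hD]
      refine ⟨hom_apply_mem hψ _, fun y hy => ?_⟩
      obtain ⟨y', hy', hyy⟩ := H759.StronglyClosed.exists_preimage hQsc hψ
        (le_sup_right : Q ≤ R ⊔ Q) hy
      have h3 := ((hD d).1 hd).2 y' hy'
      have hmem : y'⁻¹ * (d * y' * d⁻¹) ∈ R ⊔ Q := by
        have hy'' := (le_sup_right : Q ≤ R ⊔ Q) hy'
        exact (R ⊔ Q).mul_mem ((R ⊔ Q).inv_mem hy'')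
          ((R ⊔ Q).mul_mem ((R ⊔ Q).mul_mem hd' hy'') ((R ⊔ Q).inv_mem hd'))
      have h4 := H759.StronglyClosed.apply_mem hZsc hψ (x := ⟨_, hmem⟩) h3
      have e : (⟨y'⁻¹ * (d * y' * d⁻¹), hmem⟩ : ↥(R ⊔ Q)) =
          (⟨y', (le_sup_right : Q ≤ R ⊔ Q) hy'⟩)⁻¹ * (⟨d, hd'⟩ *
            ⟨y', (le_sup_right : Q ≤ R ⊔ Q) hy'⟩ * (⟨d, hd'⟩)⁻¹) := rfl
      rw [e, map_mul, map_mul, map_mul, map_inv, map_inv, hyy] at h4
      exact h4
    · exact H759.StronglyClosed.apply_mem hQsc hψ (x := ⟨q, hq'⟩) hq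
  -- `D Q` is normal
  have hDn : F.IsNormal (D ⊔ Q) := by
    refine H759.isNormal_of_forall hS hF hDsc fun R hRa hRr _ => ?_
    have hRS : R ≤ S := hRa.1
    have hfR : Finite R := finite_of_le hRS
    have hRQS : R ⊔ Q ≤ S := sup_le hRS hQS
    set N : Set (MulAut R) := {κ | ∃ a ∈ F.autGroup R, ∃ (g : Ω) (_ : g ∈ D ⊔ Q)
      (hgn : g ∈ Subgroup.normalizer (R : Set Ω)), κ = a * H759.conjAut R g hgn * a⁻¹} with hNdef
    have hNE : N ⊆ E.autGroup R := by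
      rintro _ ⟨a, ha, g, hg, hgn, rfl⟩
      have hgS : g ∈ S := hDQ hg
      obtain ⟨a', ha', ha'e⟩ := exists_extend_aut hQ hRS ha
      -- conjugation by `g` on `R Q`
      have hgU : g ∈ Subgroup.normalizer ((R ⊔ Q : Subgroup Ω) : Set Ω) := by
        have hgQ := hSQ hgS
        rw [Subgroup.mem_normalizer_iff] at hgn hgQ ⊢
        have key : ∀ y : Ω, (∀ z ∈ R, y * z * y⁻¹ ∈ R) → (∀ z ∈ Q, y * z * y⁻¹ ∈ Q) →
            ∀ z ∈ R ⊔ Q, y * z * y⁻¹ ∈ R ⊔ Q := by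
          intro y h1 h2 z hz
          have h3 : (R ⊔ Q).map (MulAut.conj y).toMonoidHom ≤ R ⊔ Q := by
            rw [Subgroup.map_sup]
            refine sup_le_sup ?_ ?_
            · rintro _ ⟨w, hw, rfl⟩
              exact h1 w hw
            · rintro _ ⟨w, hw, rfl⟩
              exact h2 w hw
          exact h3 ⟨z, hz, rfl⟩
        intro y
        refine ⟨fun hy => key g (fun z hz => (hgn z).1 hz) (fun z hz => (hgQ z).1 hz) y hy,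
          fun hy => ?_⟩
        have h4 := key g⁻¹ (fun z hz => by
            rw [hgn]; simpa [mul_assoc] using hz) (fun z hz => by
            rw [hgQ]; simpa [mul_assoc] using hz) _ hy
        have e : g⁻¹ * (g * y * g⁻¹) * g⁻¹⁻¹ = y := by group
        rwa [e] at h4
      obtain ⟨c, hc⟩ := exists_conjAut hgU
      have hcF : c ∈ F.autGroup (R ⊔ Q) :=
        autInducedBy_le_autGroup F hRQS ((mem_autInducedBy_iff S _ c).2 ⟨g, hgS, hc⟩)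
      set b : MulAut ↥(R ⊔ Q) := a' * c * a'⁻¹ with hb
      have hbF : b ∈ F.autGroup (R ⊔ Q) :=
        Subgroup.mul_mem _ (Subgroup.mul_mem _ ha' hcF) (Subgroup.inv_mem _ ha')
      have hbHom := (mem_autGroup_iff F hRQS b).1 hbF
      have ha'Hom := (mem_autGroup_iff F hRQS a').1 ha'
      rw [SetLike.mem_coe, mem_autGroup_iff E hRS]
      -- `a'` on `R`
      have ha'R : ∀ x : R, a' ⟨x, (le_sup_left : R ≤ R ⊔ Q) x.2⟩ =
          ⟨(a x : R), (le_sup_left : R ≤ R ⊔ Q) (a x).2⟩ := fun x => Subtype.ext (ha'e x)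
      have ha'R' : ∀ x : R, a'⁻¹ ⟨x, (le_sup_left : R ≤ R ⊔ Q) x.2⟩ =
          ⟨(a⁻¹ x : R), (le_sup_left : R ≤ R ⊔ Q) (a⁻¹ x).2⟩ := by
        intro x
        have h1 := ha'R (a⁻¹ x)
        have h2 : a (a⁻¹ x) = x := a.apply_symm_apply x
        rw [h2] at h1
        rw [← h1]
        exact a'.symm_apply_apply _
      obtain ⟨q, hq, hqact⟩ := hact g hg
      have hqU : q ∈ R ⊔ Q := (le_sup_right : Q ≤ R ⊔ Q) hq
      have ha'q : ((a' ⟨q, hqU⟩ : ↥(R ⊔ Q)) : Ω) ∈ Q :=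
        H759.StronglyClosed.apply_mem hQsc ha'Hom (x := ⟨q, hqU⟩) hq
      refine hE2 R _ hRS (fun x => hRS ((a * H759.conjAut R g hgn * a⁻¹) x).2)
        ((R ⊔ Q).subtype.comp b.toMonoidHom) hbHom (fun x => ?_) (fun x => ?_)
        ((a' ⟨q, hqU⟩ : ↥(R ⊔ Q)) : Ω) (hQS ha'q) (fun x => ?_)
      · -- agreement on `R`
        show ((a' (c (a'⁻¹ ⟨x, _⟩)) : ↥(R ⊔ Q)) : Ω) = ((a (H759.conjAut R g hgn (a⁻¹ x)) : R) : Ω)
        rw [ha'R' x]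
        have h1 : c ⟨(a⁻¹ x : R), (le_sup_left : R ≤ R ⊔ Q) (a⁻¹ x).2⟩ =
            ⟨(H759.conjAut R g hgn (a⁻¹ x) : R),
              (le_sup_left : R ≤ R ⊔ Q) (H759.conjAut R g hgn (a⁻¹ x)).2⟩ := by
          apply Subtype.ext
          rw [hc]
          exact (H759.coe_conjAut hgn _).symm
        rw [h1, ha'R]
      · exact ⟨fun hx => H759.StronglyClosed.apply_mem hZsc hbHom (x := Subgroup.inclusion _ x) hx,
          fun hx => H759.StronglyClosed.mem_of_apply_mem hZsc hbHom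
            (x := Subgroup.inclusion _ x) hx⟩
      · -- action on `Q/Z`
        have hxU : (x : Ω) ∈ R ⊔ Q := (le_sup_right : Q ≤ R ⊔ Q) x.2
        obtain ⟨y, hy, hyx⟩ := H759.StronglyClosed.exists_preimage hQsc ha'Hom
          (le_sup_right : Q ≤ R ⊔ Q) x.2
        have hyU : y ∈ R ⊔ Q := (le_sup_right : Q ≤ R ⊔ Q) hy
        have hyx' : a' ⟨y, hyU⟩ = ⟨x, hxU⟩ := Subtype.ext hyx
        have hyx'' : a'⁻¹ ⟨x, hxU⟩ = ⟨y, hyU⟩ := by
          rw [← hyx']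
          exact a'.symm_apply_apply _
        have hz := hqact y hy
        -- the element `z` in `R Q`
        have hzU : (q * y * q⁻¹)⁻¹ * (g * y * g⁻¹) ∈ R ⊔ Q := by
          refine (R ⊔ Q).mul_mem ((R ⊔ Q).inv_mem ?_) ?_
          · exact (R ⊔ Q).mul_mem ((R ⊔ Q).mul_mem hqU hyU) ((R ⊔ Q).inv_mem hqU)
          · exact (Subgroup.mem_normalizer_iff.1 hgU _).1 hyU
        have hz' := H759.StronglyClosed.apply_mem hZsc ha'Hom (x := ⟨_, hzU⟩) hz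
        have e1 : (⟨(q * y * q⁻¹)⁻¹ * (g * y * g⁻¹), hzU⟩ : ↥(R ⊔ Q)) =
            (⟨q, hqU⟩ * ⟨y, hyU⟩ * (⟨q, hqU⟩)⁻¹)⁻¹ * c ⟨y, hyU⟩ := by
          apply Subtype.ext
          show (q * y * q⁻¹)⁻¹ * (g * y * g⁻¹) = (q * y * q⁻¹)⁻¹ * ((c ⟨y, hyU⟩ : ↥(R ⊔ Q)) : Ω)
          rw [hc]
        have e2 : ((R ⊔ Q).subtype.comp a'.toMonoidHom) ⟨(q * y * q⁻¹)⁻¹ * (g * y * g⁻¹), hzU⟩ =
            (((a' ⟨q, hqU⟩ : ↥(R ⊔ Q)) : Ω) * x * ((a' ⟨q, hqU⟩ : ↥(R ⊔ Q)) : Ω)⁻¹)⁻¹ *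
              ((a' (c ⟨y, hyU⟩) : ↥(R ⊔ Q)) : Ω) := by
          rw [e1]
          show ((a' ((⟨q, hqU⟩ * ⟨y, hyU⟩ * (⟨q, hqU⟩)⁻¹)⁻¹ * c ⟨y, hyU⟩) : ↥(R ⊔ Q)) : Ω) = _
          rw [map_mul, map_inv, map_mul, map_mul, map_inv, hyx']
          rfl
        rw [e2] at hz'
        show (((a' ⟨q, hqU⟩ : ↥(R ⊔ Q)) : Ω) * x * ((a' ⟨q, hqU⟩ : ↥(R ⊔ Q)) : Ω)⁻¹)⁻¹ *
          ((a' (c (a'⁻¹ ⟨x, hxU⟩)) : ↥(R ⊔ Q)) : Ω) ∈ Z
        rw [hyx'']
        exact hz'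
    have hKE : Subgroup.closure N ≤ E.autGroup R := (Subgroup.closure_le _).2 hNE
    have hKp : IsPGroup p (Subgroup.closure N) :=
      (isPGroup_autGroup_of_inner hS hRS (hEinner R).le).of_injective
        (Subgroup.inclusion hKE) (Subgroup.inclusion_injective hKE)
    have hKF : Subgroup.closure N ≤ F.autGroup R :=
      hKE.trans (autGroup_le_of_isSubsystemOf (fun P => hEF P) R)
    have hKn : ∀ a ∈ F.autGroup R, ∀ k ∈ Subgroup.closure N, a * k * a⁻¹ ∈ Subgroup.closure N := by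
      intro a ha k hk
      have h1 : (Subgroup.closure N).map (MulAut.conj a).toMonoidHom ≤ Subgroup.closure N := by
        rw [MonoidHom.map_closure, Subgroup.closure_le]
        rintro _ ⟨_, ⟨b, hb, g, hg, hgn, rfl⟩, rfl⟩
        refine Subgroup.subset_closure ⟨a * b, Subgroup.mul_mem _ ha hb, g, hg, hgn, ?_⟩
        show a * (b * H759.conjAut R g hgn * b⁻¹) * a⁻¹ = _
        group
      exact h1 ⟨k, hk, rfl⟩
    have hKS := H759.le_autInducedBy_of_normal hRa (Subgroup.closure N) hKF hKn hKp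
    intro α hα g hg hgn
    exact hKS (Subgroup.subset_closure ⟨α, hα, g, hg, hgn, rfl⟩)
  have hDQle : D ⊔ Q ≤ Q := H759.IsNormal.le_core hDn
  refine ⟨hF, Q, hQ, hQS, ?_⟩
  intro Q' hQ'
  have hQQ' : Q' = Q := by
    obtain ⟨φ, hφ, rfl⟩ := hQ'
    exact range_eq_of_mapsTo hφ (fun x => hQsc.2 Q le_rfl φ hφ x)
  subst hQQ'
  intro s hs
  refine hDQle ((le_sup_left : D ≤ D ⊔ Q) ((hD s).2 ⟨hs.1, fun x hx => ?_⟩))
  have h1 := Subgroup.mem_centralizer_iff.1 hs.2 x hx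
  have e : x⁻¹ * (s * x * s⁻¹) = 1 := by rw [← h1]; group
  rw [e]
  exact Z.one_mem

end Cfsg.Agent.H801
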