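import Cfsg.Agent.H802.FusNorm

/-!
# The centralizer fusion system exists (helper801)
-/

set_option autoImplicit false

namespace Cfsg.Agent.H801

open Cfsg Cfsg.FusionSystem Cfsg.Agent.H802

variable {Ω : Type*} [Group Ω] {S : Subgroup Ω}

/-- A homomorphism on `P ⊔ Q` with values in `R` on `P` and on `Q` has values in `R`. -/
theorem sup_mapsTo {P Q R : Subgroup Ω} (ψ : ↥(P ⊔ Q) →* Ω)
    (hP : ∀ (x : Ω) (hx : x ∈ P), ψ ⟨x, le_sup_left (a := P) hx⟩ ∈ R)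
    (hQ : ∀ (x : Ω) (hx : x ∈ Q), ψ ⟨x, le_sup_right (a := P) hx⟩ ∈ R) (x : ↥(P ⊔ Q)) :
    ψ x ∈ R := by
  have h : (P.subgroupOf (P ⊔ Q)) ⊔ (Q.subgroupOf (P ⊔ Q)) ≤ R.comap ψ := by
    refine sup_le ?_ ?_
    · intro y hy
      exact hP y hy
    · intro y hy
      exact hQ y hy
  have h2 : (P.subgroupOf (P ⊔ Q)) ⊔ (Q.subgroupOf (P ⊔ Q)) = ⊤ := by
    rw [← Subgroup.subgroupOf_sup le_sup_left le_sup_right, Subgroup.subgroupOf_self]
  rw [h2] at h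
  exact h (Subgroup.mem_top x)

/-- Two homomorphisms on `P ⊔ Q` agreeing on `P` and on `Q` agree. -/
theorem sup_agree {P Q : Subgroup Ω} (ψ χ : ↥(P ⊔ Q) →* Ω)
    (hP : ∀ (x : Ω) (hx : x ∈ P), ψ ⟨x, le_sup_left (a := P) hx⟩ = χ ⟨x, le_sup_left (a := P) hx⟩)
    (hQ : ∀ (x : Ω) (hx : x ∈ Q), ψ ⟨x, le_sup_right (a := P) hx⟩ = χ ⟨x, le_sup_right (a := P) hx⟩) :
    ψ = χ := by
  have h : (P.subgroupOf (P ⊔ Q)) ⊔ (Q.subgroupOf (P ⊔ Q)) ≤ ψ.eqLocus χ := by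
    refine sup_le ?_ ?_
    · intro y hy
      exact hP y hy
    · intro y hy
      exact hQ y hy
  have h2 : (P.subgroupOf (P ⊔ Q)) ⊔ (Q.subgroupOf (P ⊔ Q)) = ⊤ := by
    rw [← Subgroup.subgroupOf_sup le_sup_left le_sup_right, Subgroup.subgroupOf_self]
  rw [h2] at h
  exact MonoidHom.ext fun x => h (Subgroup.mem_top x)

/-- The centralizer fusion system `C_F(Q)`, for `Q ≤ S`. -/
def centSys (F : FusionSystem S) {Q : Subgroup Ω} (hQ : Q ≤ S) :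
    FusionSystem (centralizerIn S Q) where
  Hom P := F.centralizerHom Q P
  le_of_mem h := ⟨h.2.1, h.2.2.1⟩
  injective_of_mem h := F.injective_of_mem h.1
  conj_mem := by
    intro P g hP hg
    refine ⟨F.conj_mem (hP.trans inf_le_left) hg.1, hP, fun x => ?_, ?_⟩
    · exact (centralizerIn S Q).mul_mem ((centralizerIn S Q).mul_mem hg (hP x.2))
        ((centralizerIn S Q).inv_mem hg)
    · refine ⟨conjHom (P ⊔ Q) g, F.conj_mem (sup_le (hP.trans inf_le_left) hQ) hg.1,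
        fun x => rfl, fun x => ?_⟩
      show g * (x : Ω) * g⁻¹ = x
      have := Subgroup.mem_centralizer_iff.1 hg.2 x x.2
      rw [← this]
      group
  comp_mem := by
    rintro P P' φ ψ ⟨hφ, hP, hφC, φ', hφ', hφ'1, hφ'2⟩ ⟨hψ, hP', hψC, ψ', hψ', hψ'1, hψ'2⟩ h
    refine ⟨F.comp_mem hφ hψ h, hP, fun x => hψC _, ?_⟩
    have hmem : ∀ x : ↥(P ⊔ Q), φ' x ∈ P' ⊔ Q := by
      refine sup_mapsTo φ' ?_ ?_
      · intro x hx
        have h1 : φ' ⟨x, le_sup_left (a := P) hx⟩ = φ ⟨x, hx⟩ := hφ'1 ⟨x, hx⟩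
        rw [h1]
        exact le_sup_left (a := P') (h _)
      · intro x hx
        have h1 : φ' ⟨x, le_sup_right (a := P) hx⟩ = x := hφ'2 ⟨x, hx⟩
        rw [h1]
        exact le_sup_right (a := P') hx
    obtain ⟨χ, hχ, hχe⟩ := exists_comp hφ' hψ' hmem
    refine ⟨χ, hχ, fun x => ?_, fun x => ?_⟩
    · rw [hχe]
      have h1 : (⟨φ' (Subgroup.inclusion le_sup_left x), hmem _⟩ : ↥(P' ⊔ Q)) =
          Subgroup.inclusion le_sup_left ⟨φ x, h x⟩ := Subtype.ext (hφ'1 x)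
      rw [h1, hψ'1]
      rfl
    · rw [hχe]
      have h1 : (⟨φ' (Subgroup.inclusion le_sup_right x), hmem _⟩ : ↥(P' ⊔ Q)) =
          Subgroup.inclusion le_sup_right x := Subtype.ext (hφ'2 x)
      rw [h1, hψ'2]
  inv_mem := by
    rintro P φ ⟨hφ, hP, hφC, φ', hφ', hφ'1, hφ'2⟩
    obtain ⟨ψ, hψ, hψr, hψ1, hψ2⟩ := exists_inv hφ rfl
    have hr : φ'.range = φ.range ⊔ Q := by
      apply le_antisymm
      · rintro _ ⟨x, rfl⟩
        refine sup_mapsTo φ' ?_ ?_ x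
        · intro x hx
          have h1 : φ' ⟨x, le_sup_left (a := P) hx⟩ = φ ⟨x, hx⟩ := hφ'1 ⟨x, hx⟩
          rw [h1]
          exact le_sup_left (a := φ.range) ⟨_, rfl⟩
        · intro x hx
          have h1 : φ' ⟨x, le_sup_right (a := P) hx⟩ = x := hφ'2 ⟨x, hx⟩
          rw [h1]
          exact le_sup_right (a := φ.range) hx
      · refine sup_le ?_ ?_
        · rintro _ ⟨x, rfl⟩
          exact ⟨_, hφ'1 x⟩
        · intro x hx
          exact ⟨_, hφ'2 ⟨x, hx⟩⟩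
    obtain ⟨ψ', hψ', hψ'r, hψ'1, hψ'2⟩ := exists_inv hφ' hr
    refine ⟨ψ, ⟨hψ, ?_, ?_, ψ', hψ', fun x => ?_, fun x => ?_⟩, fun x => hψ1 x ⟨x, rfl⟩⟩
    · rintro _ ⟨x, rfl⟩
      exact hφC x
    · intro x
      exact hP (hψr.le ⟨x, rfl⟩)
    · obtain ⟨_, y, rfl⟩ := x
      have h0 : ψ ⟨φ y, ⟨y, rfl⟩⟩ = (y : Ω) := hψ1 y ⟨y, rfl⟩
      rw [h0]
      have h3 : φ' (Subgroup.inclusion le_sup_left y) ∈ φ.range ⊔ Q := by
        rw [hφ'1]
        exact Subgroup.mem_sup_left (MonoidHom.mem_range.2 ⟨y, rfl⟩)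
      have h1 := hψ'1 (Subgroup.inclusion le_sup_left y) h3
      have h2 : (⟨φ' (Subgroup.inclusion le_sup_left y), h3⟩ : ↥(φ.range ⊔ Q)) =
          Subgroup.inclusion (le_sup_left : φ.range ≤ φ.range ⊔ Q) ⟨φ y, ⟨y, rfl⟩⟩ :=
        Subtype.ext (hφ'1 y)
      rw [h2] at h1
      exact h1
    · have h3 : φ' (Subgroup.inclusion le_sup_right x) ∈ φ.range ⊔ Q := by
        rw [hφ'2]
        exact (le_sup_right : Q ≤ φ.range ⊔ Q) x.2
      have h1 := hψ'1 (Subgroup.inclusion le_sup_right x) h3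
      have h2 : (⟨φ' (Subgroup.inclusion le_sup_right x), h3⟩ : ↥(φ.range ⊔ Q)) =
          Subgroup.inclusion (le_sup_right : Q ≤ φ.range ⊔ Q) x := Subtype.ext (hφ'2 x)
      rw [h2] at h1
      exact h1

theorem centSys_isCentralizerSystem (F : FusionSystem S) {Q : Subgroup Ω} (hQ : Q ≤ S) :
    F.IsCentralizerSystem Q (centSys F hQ) := fun _ => rfl

end Cfsg.Agent.H801
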