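import Cfsg.Agent.PLocal.ZJ
import Cfsg.Agent.PLocal.AbelianStable
import Cfsg.Agent.PLocal.ComplementReduction
import Cfsg.Agent.Transfer.PNilpotentBasic
import Cfsg.Agent.S0659

/-!
# Glauberman's argument for families of abelian subgroups (helper801)

`sInf_family_normal`: `G` a finite group with `C_G(O_p(G)) ≤ O_p(G)`, `p`-stable on its normal `p`-subgroups, `𝒜` a
nonempty family of abelian subgroups of a Sylow `p`-subgroup `S` with the invariance and the replacement property. Then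
the intersection of `𝒜` is normal in `G`.

`isPStableOn_of_maximal`: `p` odd, `C_G(O_p(G)) ≤ O_p(G)` and the Sylow `p`-subgroup maximal in `G`: `G` is `p`-stable.
-/

set_option autoImplicit false

namespace Cfsg.Agent.H801

open Cfsg Subgroup Cfsg.Agent.PLocal.ZJ
open scoped commutatorElement

universe u

/-- Main step: the part of `⋂ 𝒜` inside a normal `p`-subgroup `B` is normal. -/
theorem inf_sInf_family_normal {G : Type*} [Group G] [Finite G] {p : ℕ} [Fact p.Prime] (S : Sylow p G)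
    (𝒜 : Set (Subgroup G)) (h𝒜 : ∀ A ∈ 𝒜, A ≤ (S : Subgroup G) ∧ IsMulCommutative A)
    (hne : 𝒜.Nonempty)
    (hinv : ∀ Q : Subgroup G, Q ≤ (S : Subgroup G) → (∃ A ∈ 𝒜, A ≤ Q) →
      normalizer (Q : Set G) ≤ normalizer ((sInf {A | A ∈ 𝒜 ∧ A ≤ Q} : Subgroup G) : Set G))
    (hrep : ∀ B : Subgroup G, B.Normal → IsPGroup p B → ⁅⁅B, B⁆, B⁆ = ⊥ →
      (∃ A ∈ 𝒜, ⁅B, B⁆ ≤ A ∧ ¬ B ≤ A) →
      ∃ A ∈ 𝒜, ⁅B, B⁆ ≤ A ∧ ¬ B ≤ A ∧ B ≤ normalizer (A : Set G))
    (B : Subgroup G) (hBn : B.Normal) (hB : IsPGroup p B)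
    (hst : ∀ (P : Subgroup G) [P.Normal], P ≤ B → StableFor p (S : Subgroup G) P) :
    (B ⊓ sInf 𝒜).Normal := by
  induction hn : Nat.card B using Nat.strong_induction_on generalizing B with
  | _ n ih =>
  subst hn
  set Z : Subgroup G := sInf 𝒜 with hZdef
  have hSp : IsPGroup p (S : Subgroup G) := S.isPGroup'
  have hBS : B ≤ (S : Subgroup G) := hB.le_sylow_of_normal S
  have hZA : ∀ A ∈ 𝒜, Z ≤ A := fun A hA => sInf_le hA
  obtain ⟨A00, hA00⟩ := hne
  have hZc : ∀ x ∈ Z, ∀ y ∈ Z, x * y = y * x := fun x hx y hy =>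
    PLocal.Replacement.mul_comm_of_isMulCommutative (h𝒜 _ hA00).2 (hZA _ hA00 hx) (hZA _ hA00 hy)
  have hSZ : (S : Subgroup G) ≤ normalizer (Z : Set G) := by
    have h1 := hinv (S : Subgroup G) le_rfl ⟨A00, hA00, (h𝒜 _ hA00).1⟩
    have h2 : {A | A ∈ 𝒜 ∧ A ≤ (S : Subgroup G)} = 𝒜 := by
      ext A
      exact ⟨fun h => h.1, fun h => ⟨h, (h𝒜 A h).1⟩⟩
    rw [h2] at h1
    exact Subgroup.le_normalizer.trans h1
  have ih' : ∀ B' : Subgroup G, B'.Normal → B' < B → (B' ⊓ Z).Normal := by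
    intro B' hB'n hlt
    have hcard : Nat.card B' < Nat.card B := by
      refine lt_of_le_of_ne (Nat.card_le_card_of_injective _ (Subgroup.inclusion_injective hlt.le)) ?_
      intro h
      exact hlt.ne (Subgroup.eq_of_le_of_card_ge hlt.le h.ge)
    exact ih _ hcard B' hB'n (hB.to_le hlt.le) (fun P _ hP => hst P (hP.trans hlt.le)) rfl
  by_contra hcon
  -- step 1: B is the normal closure of B ⊓ Z
  have hB1 : normalClosure ((B ⊓ Z : Subgroup G) : Set G) = B := by
    have hle : normalClosure ((B ⊓ Z : Subgroup G) : Set G) ≤ B :=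
      Subgroup.normalClosure_le_normal (fun x hx => hx.1)
    by_contra hne
    have h1 := ih' _ Subgroup.normalClosure_normal (lt_of_le_of_ne hle hne)
    have h2 : normalClosure ((B ⊓ Z : Subgroup G) : Set G) ⊓ Z = B ⊓ Z := by
      apply le_antisymm
      · exact inf_le_inf_right _ hle
      · exact le_inf Subgroup.le_normalClosure inf_le_right
    rw [h2] at h1
    exact hcon h1
  have hBbot : B ≠ ⊥ := by
    rintro rfl
    apply hcon
    rw [bot_inf_eq]
    infer_instance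
  -- step 2: B' < B
  have hBBn : (⁅B, B⁆ : Subgroup G).Normal := Subgroup.commutator_normal B B
  have hBBle : ⁅B, B⁆ ≤ B := Subgroup.commutator_le_left B B
  have hBBlt : ⁅B, B⁆ < B := by
    refine lt_of_le_of_ne hBBle ?_
    intro h
    have : Group.IsNilpotent B := hB.isNilpotent
    have : Nontrivial B := (Subgroup.nontrivial_iff_ne_bot B).mpr hBbot
    have h1 : commutator B < ⊤ := Group.IsSolvable.commutator_lt_top_of_nontrivial B
    apply h1.ne
    have h2 : (commutator B).map B.subtype = ⁅B, B⁆ := by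
      rw [commutator_def, Subgroup.map_commutator, ← MonoidHom.range_eq_map, Subgroup.range_subtype]
    rw [h] at h2
    rw [eq_top_iff]
    intro x _
    have h3 : (x : G) ∈ (commutator B).map B.subtype := by rw [h2]; exact x.2
    obtain ⟨y, hy, hyx⟩ := h3
    have : y = x := Subtype.ext hyx
    rwa [← this]
  have hT : (⁅B, B⁆ ⊓ Z).Normal := ih' _ hBBn hBBlt
  -- step 3: ⁅B,B⁆ ≤ Z
  have hBZ : ⁅B, B⁆ ≤ ⁅B, B⁆ ⊓ Z := by
    have h1 : ⁅B, normalClosure ((B ⊓ Z : Subgroup G) : Set G)⁆ ≤ ⁅B, B⁆ ⊓ Z := by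
      refine commutator_normalClosure_le hBn hT ?_
      intro b hb z hz
      refine ⟨Subgroup.commutator_mem_commutator hb hz.1, ?_⟩
      rw [commutatorElement_def]
      exact Z.mul_mem ((Subgroup.mem_normalizer_iff.mp (hSZ (hBS hb)) z).mp hz.2) (Z.inv_mem hz.2)
    rwa [hB1] at h1
  have hBZ' : ⁅B, B⁆ ≤ Z := hBZ.trans inf_le_right
  -- step 4: class at most two
  have hcl : ⁅⁅B, B⁆, B⁆ = ⊥ := by
    rw [eq_bot_iff]
    have h1 : ⁅⁅B, B⁆, normalClosure ((B ⊓ Z : Subgroup G) : Set G)⁆ ≤ ⊥ := by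
      refine commutator_normalClosure_le hBBn inferInstance ?_
      intro b hb z hz
      rw [Subgroup.mem_bot, commutatorElement_eq_one_iff_mul_comm]
      exact hZc b (hBZ' hb) z hz.2
    rwa [hB1] at h1
  -- some member does not contain B
  by_cases hall : ∀ A ∈ 𝒜, B ≤ A
  · apply hcon
    rw [inf_eq_left.2 (le_sInf hall)]
    exact hBn
  push Not at hall
  obtain ⟨A0, hA0, hBA0⟩ := hall
  obtain ⟨A, hA, -, hBA, hAN⟩ := hrep B hBn hB hcl ⟨A0, hA0, hBZ'.trans (hZA A0 hA0), hBA0⟩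
  -- stability
  set K : Subgroup G := kernelCore p B with hKdef
  have hAK : A ≤ K := le_kernelCore (hst B le_rfl) (h𝒜 A hA).1 (h𝒜 A hA).2 hAN
  have hAQ : A ≤ K ⊓ (S : Subgroup G) := le_inf hAK (h𝒜 A hA).1
  -- Frattini
  obtain ⟨k, hk⟩ := kernelCore_relIndex p B
  have hfr := frattini_sup S (centralizer (B : Set G)) K (kernelCore_normal p B) hk
  -- B ⊓ ZQ normal
  set ZQ : Subgroup G := sInf {A | A ∈ 𝒜 ∧ A ≤ K ⊓ (S : Subgroup G)} with hZQ
  have hZQn : (B ⊓ ZQ).Normal := by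
    rw [← Subgroup.normalizer_eq_top_iff, eq_top_iff, ← hfr]
    refine sup_le ?_ ?_
    · intro g hg
      rw [Subgroup.mem_normalizer_iff]
      have hcent : ∀ b ∈ B, g * b * g⁻¹ = b := by
        intro b hb
        rw [← Subgroup.mem_centralizer_iff.mp hg b hb, mul_inv_cancel_right]
      intro b
      constructor
      · intro hb
        rw [hcent b hb.1]
        exact hb
      · intro hb
        have hb' : b ∈ B := by
          have := hBn.conj_mem _ hb.1 g⁻¹
          simpa [mul_assoc] using this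
        rwa [hcent b hb'] at hb
    · intro g hg
      have h1 := hinv (K ⊓ (S : Subgroup G)) inf_le_right ⟨A, hA, hAQ⟩ hg
      rw [Subgroup.mem_normalizer_iff] at h1 ⊢
      intro b
      constructor
      · intro hb
        exact ⟨hBn.conj_mem _ hb.1 g, (h1 b).mp hb.2⟩
      · intro hb
        refine ⟨?_, (h1 b).mpr hb.2⟩
        have := hBn.conj_mem _ hb.1 g⁻¹
        simpa [mul_assoc] using this
  have hZZQ : Z ≤ ZQ := le_sInf fun A' hA' => hZA A' hA'.1
  have hBZQ : B ≤ ZQ := by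
    have h1 : normalClosure ((B ⊓ Z : Subgroup G) : Set G) ≤ B ⊓ ZQ :=
      Subgroup.normalClosure_le_normal (fun x hx => ⟨hx.1, hZZQ hx.2⟩)
    rw [hB1] at h1
    exact h1.trans inf_le_right
  exact hBA (hBZQ.trans (sInf_le ⟨hA, hAQ⟩))

/-- **Glauberman's ZJ argument for families.** -/
theorem sInf_family_normal {G : Type*} [Group G] [Finite G] {p : ℕ} [Fact p.Prime] (S : Sylow p G)
    (hc : centralizer (pCore p G : Set G) ≤ pCore p G)
    (hst : ∀ (P : Subgroup G) [P.Normal], IsPGroup p P → StableFor p (S : Subgroup G) P)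
    (𝒜 : Set (Subgroup G)) (h𝒜 : ∀ A ∈ 𝒜, A ≤ (S : Subgroup G) ∧ IsMulCommutative A)
    (hne : 𝒜.Nonempty)
    (hinv : ∀ Q : Subgroup G, Q ≤ (S : Subgroup G) → (∃ A ∈ 𝒜, A ≤ Q) →
      normalizer (Q : Set G) ≤ normalizer ((sInf {A | A ∈ 𝒜 ∧ A ≤ Q} : Subgroup G) : Set G))
    (hrep : ∀ B : Subgroup G, B.Normal → IsPGroup p B → ⁅⁅B, B⁆, B⁆ = ⊥ →
      (∃ A ∈ 𝒜, ⁅B, B⁆ ≤ A ∧ ¬ B ≤ A) →
      ∃ A ∈ 𝒜, ⁅B, B⁆ ≤ A ∧ ¬ B ≤ A ∧ B ≤ normalizer (A : Set G)) :
    (sInf 𝒜).Normal := by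
  set Z : Subgroup G := sInf 𝒜 with hZdef
  have hO : (pCore p G).Normal := Cfsg.Agent.Lib.Cores.pCore_normal p
  have hOp : IsPGroup p (pCore p G) := Cfsg.Agent.Lib.Cores.pCore_isPGroup p
  have hOS : pCore p G ≤ (S : Subgroup G) := hOp.le_sylow_of_normal S
  obtain ⟨A0, hA0⟩ := hne
  have hZA0 : Z ≤ A0 := sInf_le hA0
  have hSZ : (S : Subgroup G) ≤ normalizer (Z : Set G) := by
    have h1 := hinv (S : Subgroup G) le_rfl ⟨A0, hA0, (h𝒜 _ hA0).1⟩
    have h2 : {A | A ∈ 𝒜 ∧ A ≤ (S : Subgroup G)} = 𝒜 := by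
      ext A
      exact ⟨fun h => h.1, fun h => ⟨h, (h𝒜 A h).1⟩⟩
    rw [h2] at h1
    exact Subgroup.le_normalizer.trans h1
  have hZc : IsMulCommutative Z := by
    refine ⟨⟨fun x y => Subtype.ext ?_⟩⟩
    exact PLocal.Replacement.mul_comm_of_isMulCommutative (h𝒜 _ hA0).2 (hZA0 x.2) (hZA0 y.2)
  have hZK : Z ≤ kernelCore p (pCore p G) :=
    le_kernelCore (hst _ hOp) (hZA0.trans (h𝒜 _ hA0).1) hZc (hOS.trans hSZ)
  have hKp : IsPGroup p (kernelCore p (pCore p G)) := by
    refine IsPGroup.comap_of_ker_isPGroup (Cfsg.Agent.Lib.Cores.pCore_isPGroup p) _ ?_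
    rw [QuotientGroup.ker_mk']
    exact hOp.to_le hc
  have hKO : kernelCore p (pCore p G) ≤ pCore p G :=
    Cfsg.Agent.Lib.Cores.le_pCore (kernelCore_normal p _) hKp
  have h1 := inf_sInf_family_normal S 𝒜 h𝒜 ⟨A0, hA0⟩ hinv hrep (pCore p G) hO hOp
    (fun P _ hP => hst P (hOp.to_le hP))
  rwa [inf_eq_right.mpr (hZK.trans hKO)] at h1

/-! ### Stability when the Sylow subgroup is maximal -/

/-- A quotient by a normal subgroup which is a maximal subgroup is abelian. -/
theorem commutator_le_of_maximal {G : Type*} [Group G] (P : Subgroup G) [P.Normal]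
    (hmax : ∀ M : Subgroup G, P ≤ M → M = P ∨ M = ⊤) : ⁅(⊤ : Subgroup G), (⊤ : Subgroup G)⁆ ≤ P := by
  by_cases hP : P = ⊤
  · rw [hP]; exact le_top
  obtain ⟨x, hx⟩ : ∃ x : G, x ∉ P := by
    by_contra h
    push Not at h
    exact hP (eq_top_iff.2 fun x _ => h x)
  have h1 : zpowers x ⊔ P = ⊤ := by
    rcases hmax (zpowers x ⊔ P) le_sup_right with h | h
    · exfalso
      apply hx
      rw [← h]
      exact (le_sup_left : zpowers x ≤ zpowers x ⊔ P) (mem_zpowers x)
    · exact h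
  have h2 : ∀ y : G, ∃ k : ℤ, (QuotientGroup.mk y : G ⧸ P) = (QuotientGroup.mk x : G ⧸ P) ^ k := by
    intro y
    have hy : y ∈ zpowers x ⊔ P := by rw [h1]; exact mem_top y
    obtain ⟨a, ⟨k, rfl⟩, b, hb, rfl⟩ := Subgroup.mem_sup_of_normal_right.1 hy
    refine ⟨k, ?_⟩
    rw [QuotientGroup.mk_mul, (QuotientGroup.eq_one_iff b).2 hb, mul_one]
    rfl
  rw [Subgroup.commutator_le]
  intro a _ b _
  rw [← QuotientGroup.eq_one_iff]
  change QuotientGroup.mk' P ⁅a, b⁆ = 1
  rw [map_commutatorElement, commutatorElement_eq_one_iff_mul_comm]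
  obtain ⟨k, hk⟩ := h2 a
  obtain ⟨l, hl⟩ := h2 b
  change (QuotientGroup.mk a : G ⧸ P) * QuotientGroup.mk b = QuotientGroup.mk b * QuotientGroup.mk a
  rw [hk, hl, ← zpow_add, ← zpow_add, add_comm]

/-- If `p` is odd, `C_G(O_p(G)) ≤ O_p(G)` and the Sylow `p`-subgroup is a maximal subgroup, then `G` is `p`-stable. -/
theorem isPStableOn_of_maximal {G : Type u} [Group G] [Finite G] {p : ℕ} [Fact p.Prime] (hp : p ≠ 2)
    (P : Sylow p G) (hmax : ∀ M : Subgroup G, (P : Subgroup G) ≤ M → M = P ∨ M = ⊤)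
    (V : Subgroup G) [hVn : V.Normal] (hV : IsPGroup p V) : IsPStableOn p V := by
  have hRn : (pCore p G).Normal := Lib.Cores.pCore_normal p
  have hRp := Lib.Cores.pCore_isPGroup (G := G) p
  have hRP' : pCore p G ≤ P := Lib.Cores.pCore_le_sylow P
  by_cases hRP : (P : Subgroup G) = pCore p G
  · have hPn : (P : Subgroup G).Normal := by rw [hRP]; exact hRn
    refine PLocal.AbelianStable.isPStableOn_of_abelian hp P (pCore p G) ⊤ hRp le_top ?_ ?_ ?_ V
      (Lib.Cores.le_pCore hVn hV)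
    · rw [← hRP]
      exact commutator_le_of_maximal _ hmax
    · rw [← hRP, Subgroup.relIndex_top_right]
      exact (((Fact.out : p.Prime).coprime_iff_not_dvd).2 P.not_dvd_index).symm
    · exact top_sup_eq _
  · have hs := QuotientGroup.mk'_surjective (pCore p G)
    have hnc : HasNormalPComplement p (G ⧸ pCore p G) := by
      have hPbp : IsPGroup p ((P : Subgroup G).map (QuotientGroup.mk' (pCore p G))) :=
        P.isPGroup'.map _
      have hP1 : (P : Subgroup G).map (QuotientGroup.mk' (pCore p G)) ≠ ⊥ := by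
        intro h0
        rw [Subgroup.map_eq_bot_iff, QuotientGroup.ker_mk'] at h0
        exact hRP (le_antisymm h0 hRP')
      refine S0659.result hp (P.mapSurjective hs) ?_
      rw [Sylow.coe_mapSurjective]
      obtain ⟨W, hW⟩ : ∃ W : Subgroup (G ⧸ pCore p G),
        W = centerThompsonAOf ((P : Subgroup G).map (QuotientGroup.mk' (pCore p G))) := ⟨_, rfl⟩
      have hWne : W ≠ ⊥ := by
        rw [hW]; exact PLocal.ThompsonJA.centerThompsonAOf_ne_bot _ hPbp hP1
      have hWp : IsPGroup p W := by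
        rw [hW]; exact hPbp.to_le (PLocal.ThompsonJA.centerThompsonAOf_le _)
      have hPW : (P : Subgroup G).map (QuotientGroup.mk' (pCore p G)) ≤
          Subgroup.normalizer (W : Set (G ⧸ pCore p G)) := by
        rw [hW, centerThompsonAOf_eq]
        exact Subgroup.le_normalizer.trans (normalizer_le_normalizer_sInf 0 _)
      rw [← hW]
      rcases hmax ((Subgroup.normalizer (W : Set (G ⧸ pCore p G))).comap
        (QuotientGroup.mk' (pCore p G))) (Subgroup.map_le_iff_le_comap.mp hPW) with h | h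
      · apply Transfer.PNilpotentBasic.hnc_of_isPGroup
        rw [← Subgroup.map_comap_eq_self_of_surjective hs (Subgroup.normalizer _), h]
        exact hPbp
      · exfalso
        have h1 : Subgroup.normalizer (W : Set (G ⧸ pCore p G)) = ⊤ := by
          rw [← Subgroup.map_comap_eq_self_of_surjective hs (Subgroup.normalizer _), h]
          exact Subgroup.map_top_of_surjective _ hs
        have h2 := Lib.Cores.le_pCore (Subgroup.normalizer_eq_top_iff.mp h1) hWp
        have h3 : pCore p (G ⧸ pCore p G) = ⊥ := Lib.Cores.pCore_quotient_pCore p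
        rw [h3, le_bot_iff] at h2
        exact hWne h2
    obtain ⟨A, hA, hlt, hab, hcop, htop⟩ := PLocal.ComplementReduction.exists_abelian P hRP hmax hnc
    exact PLocal.AbelianStable.isPStableOn_of_abelian hp P (pCore p G) A hRp hlt.le hab hcop htop V
      (Lib.Cores.le_pCore hVn hV)

end Cfsg.Agent.H801
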