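import Cfsg.Agent.H801.MinModel

/-!
# Families of abelian subgroups in fusion systems (helper801)

`inner_of_family`: `p` odd, `F` saturated over the finite `p`-group `S`, `𝒜` a nonempty family of abelian subgroups of
`S` with the invariance property (for `F`-automorphisms) and the replacement property (for normal subgroups of `S`). If
the normalizer system of `⋂ 𝒜` is inner, then `F` is inner.
-/

set_option autoImplicit false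

namespace Cfsg.Agent.H801

open Cfsg Cfsg.FusionSystem Cfsg.Agent.H802

universe u v

variable {Ω : Type u} [Group Ω] {S : Subgroup Ω}

/-- An element of the realizing group conjugating `ι(P)` into `ι(S)` induces a map of the system. -/
theorem exists_hom_of_conj {L : Type v} [Group L] {F : FusionSystem S} {ι : S →* L}
    (h : F.IsRealizedBy ι) {P : Subgroup Ω} (hP : P ≤ S) (g : L)
    (hg : ∀ x : P, g * ι ⟨x, hP x.2⟩ * g⁻¹ ∈ ι.range) :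
    ∃ φ ∈ F.Hom P, ∃ hφ : ∀ x : P, φ x ∈ S, ∀ x : P, ι ⟨φ x, hφ x⟩ = g * ι ⟨x, hP x.2⟩ * g⁻¹ := by
  let e : S ≃* ι.range := MonoidHom.ofInjective h.1
  let φ : P →* Ω :=
    S.subtype.comp (e.symm.toMonoidHom.comp
      (((MulAut.conj g).toMonoidHom.comp (ι.comp (Subgroup.inclusion hP))).codRestrict ι.range hg))
  have hφS : ∀ x : P, φ x ∈ S := fun x => (e.symm _).2
  have hφ : ∀ x : P, ι ⟨φ x, hφS x⟩ = g * ι ⟨x, hP x.2⟩ * g⁻¹ := by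
    intro x
    have h1 : e (e.symm ⟨g * ι ⟨x, hP x.2⟩ * g⁻¹, hg x⟩) = ⟨g * ι ⟨x, hP x.2⟩ * g⁻¹, hg x⟩ :=
      e.apply_symm_apply _
    exact congrArg Subtype.val h1
  exact ⟨φ, (h.2 P hP φ hφS).2 ⟨g, hφ⟩, hφS, hφ⟩

/-- The image of a strongly closed subgroup is strongly closed in the group. -/
theorem up_conj_mem {L : Type v} [Group L] {F : FusionSystem S} {ι : S →* L}
    (h : F.IsRealizedBy ι) {D : Subgroup Ω} (hD : F.StronglyClosed D) {g x : L} (hx : x ∈ up ι D)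
    (hgx : g * x * g⁻¹ ∈ ι.range) : g * x * g⁻¹ ∈ up ι D := by
  obtain ⟨d, hd, rfl⟩ := hx
  have hd' : (d : Ω) ∈ D := hd
  have hP : Subgroup.zpowers (d : Ω) ≤ D := by
    rw [Subgroup.zpowers_le]; exact hd'
  have hPS : Subgroup.zpowers (d : Ω) ≤ S := hP.trans hD.1
  have hg : ∀ x : Subgroup.zpowers (d : Ω), g * ι ⟨x, hPS x.2⟩ * g⁻¹ ∈ ι.range := by
    rintro ⟨_, k, rfl⟩
    have e1 : (⟨(d : Ω) ^ k, hPS ⟨k, rfl⟩⟩ : S) = d ^ k := Subtype.ext (by simp)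
    have e2 : g * ι (d ^ k) * g⁻¹ = (g * ι d * g⁻¹) ^ k := by rw [conj_zpow, map_zpow]
    show g * ι ⟨(d : Ω) ^ k, _⟩ * g⁻¹ ∈ ι.range
    rw [e1, e2]
    exact ι.range.zpow_mem hgx k
  obtain ⟨φ, hφ, hφS, hφι⟩ := exists_hom_of_conj h hPS g hg
  have h1 := hφι ⟨d, Subgroup.mem_zpowers _⟩
  have h2 : φ ⟨d, Subgroup.mem_zpowers _⟩ ∈ D := hD.2 _ hP φ hφ _
  have h3 : g * ι d * g⁻¹ = ι ⟨φ ⟨d, Subgroup.mem_zpowers _⟩, hφS _⟩ := h1.symm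
  rw [h3, mem_up h.1]
  exact h2

/-- **The Glauberman–Thompson criterion for families of abelian subgroups.** -/
theorem inner_of_family {p : ℕ} [Fact p.Prime] (hp : p ≠ 2) [Finite S] (hS : IsPGroup p S)
    {F : FusionSystem S} (hF : F.IsSaturated p) (𝒜 : Set (Subgroup Ω))
    (h𝒜 : ∀ A ∈ 𝒜, A ≤ S ∧ IsMulCommutative ↥A) (hne : 𝒜.Nonempty)
    (hinv : ∀ Q : Subgroup Ω, Q ≤ S → (∃ A ∈ 𝒜, A ≤ Q) → ∀ α ∈ F.autGroup Q, ∀ x : ↥Q,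
      (x : Ω) ∈ sInf {A : Subgroup Ω | A ∈ 𝒜 ∧ A ≤ Q} →
      (((α : MulAut ↥Q) x : ↥Q) : Ω) ∈ sInf {A : Subgroup Ω | A ∈ 𝒜 ∧ A ≤ Q})
    (hrep : ∀ B : Subgroup Ω, B ≤ S → S ≤ Subgroup.normalizer (B : Set Ω) → ⁅⁅B, B⁆, B⁆ = ⊥ →
      (∃ A ∈ 𝒜, ⁅B, B⁆ ≤ A ∧ ¬ B ≤ A) →
      ∃ A ∈ 𝒜, ⁅B, B⁆ ≤ A ∧ ¬ B ≤ A ∧ B ≤ Subgroup.normalizer (A : Set Ω))
    (hN : ∀ N : FusionSystem (normalizerIn S (sInf 𝒜)), F.IsNormalizerSystem (sInf 𝒜) N →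
      ∀ P : Subgroup Ω, N.Hom P = (innerFusionSystem (normalizerIn S (sInf 𝒜))).Hom P)
    (P : Subgroup Ω) : F.Hom P = (innerFusionSystem S).Hom P := by
  obtain ⟨A₀, hA₀⟩ := hne
  refine inner_of_normal_in_models hp hS hF (W := sInf 𝒜)
    ((sInf_le hA₀).trans (h𝒜 _ hA₀).1) ?_ hN P
  intro E _ hEF L _ _ ι hmod hst
  obtain ⟨T, hT⟩ := hmod.2.2.1
  have hι := hmod.2.1.1
  rw [up_sInf hι ⟨A₀, hA₀⟩]
  refine sInf_family_normal T hmod.2.2.2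
    (fun V _ hV => PLocal.ZJ.stableFor_of_isPStableOn _ V (hst V hV)) _ ?_ ⟨_, A₀, hA₀, rfl⟩ ?_ ?_
  · rintro _ ⟨A, hA, rfl⟩
    exact ⟨by rw [hT]; exact up_le_range A, isMulCommutative_up (h𝒜 A hA).2⟩
  · rintro Q' hQ' ⟨_, ⟨A, hA, rfl⟩, hAQ'⟩
    rw [hT] at hQ'
    obtain ⟨Q, hQ, rfl⟩ := exists_up (ι := ι) hQ'
    have hAQ : A ≤ Q := (up_le_up hι (h𝒜 A hA).1).1 hAQ'
    have hset : {A' : Subgroup L | A' ∈ up ι '' 𝒜 ∧ A' ≤ up ι Q} =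
        up ι '' {A : Subgroup Ω | A ∈ 𝒜 ∧ A ≤ Q} := by
      ext A'
      constructor
      · rintro ⟨⟨A1, hA1, rfl⟩, hA1Q⟩
        exact ⟨A1, ⟨hA1, (up_le_up hι (h𝒜 A1 hA1).1).1 hA1Q⟩, rfl⟩
      · rintro ⟨A1, ⟨hA1, hA1Q⟩, rfl⟩
        exact ⟨⟨A1, hA1, rfl⟩, up_mono hA1Q⟩
    have hneQ : {A : Subgroup Ω | A ∈ 𝒜 ∧ A ≤ Q}.Nonempty := ⟨A, hA, hAQ⟩
    rw [hset, ← up_sInf hι hneQ]
    have hIQ : sInf {A : Subgroup Ω | A ∈ 𝒜 ∧ A ≤ Q} ≤ Q :=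
      (sInf_le (show A ∈ {A : Subgroup Ω | A ∈ 𝒜 ∧ A ≤ Q} from ⟨hA, hAQ⟩)).trans hAQ
    have key : ∀ g ∈ Subgroup.normalizer (up ι Q : Set L),
        ∀ y ∈ up ι (sInf {A : Subgroup Ω | A ∈ 𝒜 ∧ A ≤ Q}),
        g * y * g⁻¹ ∈ up ι (sInf {A : Subgroup Ω | A ∈ 𝒜 ∧ A ≤ Q}) := by
      rintro g hg _ ⟨x, hx, rfl⟩
      obtain ⟨α, hα, hact⟩ := exists_aut_of_mem_normalizer hmod.2.1 hQ hg
      have hxQ : (x : Ω) ∈ Q := hIQ hx
      have hα' : α ∈ F.autGroup Q := by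
        rw [mem_autGroup_iff _ hQ] at hα ⊢
        exact hEF Q hα
      have h1 := hinv Q hQ ⟨A, hA, hAQ⟩ α hα' ⟨x, hxQ⟩ hx
      have h2 := hact ⟨x, hxQ⟩
      have h3 : g * ι x * g⁻¹ = ι ⟨(α ⟨x, hxQ⟩ : Q), hQ (α ⟨x, hxQ⟩).2⟩ := h2.symm
      rw [h3, mem_up hι]
      exact h1
    intro g hg
    rw [Subgroup.mem_normalizer_iff]
    intro y
    refine ⟨key g hg y, fun hy => ?_⟩
    have h2 := key g⁻¹ ((Subgroup.normalizer (up ι Q : Set L)).inv_mem hg) _ hy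
    have e : g⁻¹ * (g * y * g⁻¹) * g⁻¹⁻¹ = y := by group
    rwa [e] at h2
  · rintro B' hB'n hB'p hcl ⟨_, ⟨A, hA, rfl⟩, h1, h2⟩
    have hB'T : B' ≤ ι.range := by rw [← hT]; exact hB'p.le_sylow_of_normal T
    obtain ⟨B, hB, rfl⟩ := exists_up (ι := ι) hB'T
    have hBBS : ⁅B, B⁆ ≤ S := (Subgroup.commutator_mono hB hB).trans (Subgroup.commutator_le_self S)
    rw [← up_commutator hB hB] at h1 hcl ⊢
    rw [← up_commutator hBBS hB] at hcl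
    have hSB : S ≤ Subgroup.normalizer (B : Set Ω) := by
      apply up_le_normalizer hι hB le_rfl
      rw [Subgroup.normalizer_eq_top]
      exact le_top
    have hcl' : ⁅⁅B, B⁆, B⁆ = ⊥ := by
      apply up_injective hι ((Subgroup.commutator_mono hBBS hB).trans (Subgroup.commutator_le_self S)) bot_le
      rw [hcl, up_bot]
    obtain ⟨A', hA', h3, h4, h5⟩ := hrep B hB hSB hcl' ⟨A, hA, (up_le_up hι hBBS).1 h1,
      fun h => h2 (up_mono h)⟩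
    exact ⟨_, ⟨A', hA', rfl⟩, up_mono h3, fun h => h4 ((up_le_up hι hB).1 h), up_le_normalizer_up h5⟩

end Cfsg.Agent.H801
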