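import Cfsg.Agent.S0071
import Cfsg.Agent.Transfer.PNilpotentBasic

/-!
# The group-theoretic step in the reduction of `p`-nilpotency theorems for fusion systems to groups (helper801)

`WFun p` : an isomorphism-invariant choice `W(P)` of a subgroup in each finite `p`-group `P`, nontrivial for
nontrivial `P` (for instance `Z(J(P))`), in the form used in `PLocal.ComplementReduction`.

`wz W Z`, for a normal subgroup `Z` of `T`: the preimage of `W(T/Z)` in `T`.
-/

set_option autoImplicit false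

namespace Cfsg.Agent.H801

open Cfsg Cfsg.Agent.Transfer.PNilpotentBasic

universe u

section

variable {p : ℕ} [Fact p.Prime]

/-- Frobenius' criterion in terms of `HasNormalPComplement`. -/
theorem hnc_iff_frobenius {G : Type u} [Group G] [Finite G] (P : Sylow p G) :
    HasNormalPComplement p G ↔ ∀ Q : Subgroup G, Q ≤ (P : Subgroup G) →
      ∀ g ∈ Subgroup.normalizer (Q : Set G), Nat.Coprime (orderOf g) p →
        g ∈ Subgroup.centralizer (Q : Set G) := by
  rw [← S0071.result P]
  exact Transfer.NormalPComplement.hasNormalPComplement_iff_sylow P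

/-- If `N` is a normal `p`-subgroup centralized by all `p'`-elements and `G/N` has a normal `p`-complement, then
so has `G`. -/
theorem hnc_of_quotient_of_centralized {G : Type u} [Group G] [Finite G] (N : Subgroup G) [N.Normal]
    (hNp : IsPGroup p N) (hc : ∀ g : G, (orderOf g).Coprime p → ∀ z ∈ N, g * z = z * g)
    (h : HasNormalPComplement p (G ⧸ N)) : HasNormalPComplement p G := by
  obtain ⟨P⟩ : Nonempty (Sylow p G) := inferInstance
  rw [hnc_iff_frobenius P]
  intro Q hQ g hg hgp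
  rw [Subgroup.mem_centralizer_iff]
  intro q hq
  -- `g` commutes with `q` modulo `N`
  have hPm : IsPGroup p ((P : Subgroup G).map (QuotientGroup.mk' N)) := P.2.map _
  obtain ⟨P', hP'⟩ := hPm.exists_le_sylow
  have h1 := (hnc_iff_frobenius P').1 h (Q.map (QuotientGroup.mk' N))
    ((Subgroup.map_mono hQ).trans hP') (QuotientGroup.mk' N g) ?_ ?_
  · have h2 := Subgroup.mem_centralizer_iff.1 h1 (QuotientGroup.mk' N q) ⟨q, hq, rfl⟩
    rw [← map_mul, ← map_mul] at h2
    have h3 : (q * g)⁻¹ * (g * q) ∈ N := (QuotientGroup.eq).1 h2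
    set n := q⁻¹ * (g * q * g⁻¹) with hn
    have hgn : g * q * g⁻¹ ∈ Q := (Subgroup.mem_normalizer_iff.1 hg q).1 hq
    have hnN : n ∈ N := by
      have := (inferInstance : N.Normal).conj_mem _ h3 g
      have e : g * ((q * g)⁻¹ * (g * q)) * g⁻¹ = n := by rw [hn]; group
      rwa [e] at this
    have hcomm : ∀ k : ℕ, g ^ k * q * (g ^ k)⁻¹ = q * n ^ k := by
      intro k
      induction k with
      | zero => simp
      | succ k ih =>
        have hgk := hc g hgp n hnN
        have hgk' : g * n ^ k = n ^ k * g := (Commute.pow_right (show Commute g n from hgk) k)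
        calc g ^ (k + 1) * q * (g ^ (k + 1))⁻¹ = g * (g ^ k * q * (g ^ k)⁻¹) * g⁻¹ := by
              rw [pow_succ']; group
          _ = g * (q * n ^ k) * g⁻¹ := by rw [ih]
          _ = (g * q * g⁻¹) * (g * n ^ k * g⁻¹) := by group
          _ = (q * n) * n ^ k := by rw [hgk', hn]; group
          _ = q * n ^ (k + 1) := by rw [pow_succ']; group
    have hpow : n ^ orderOf g = 1 := by
      have := hcomm (orderOf g)
      rw [pow_orderOf_eq_one] at this
      simpa using this.symm
    obtain ⟨m, hm⟩ := hNp ⟨n, hnN⟩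
    have hm' : n ^ p ^ m = 1 := by
      have := congrArg Subtype.val hm
      simpa using this
    have hn1 : n = 1 := by
      have h4 : orderOf n ∣ orderOf g := orderOf_dvd_of_pow_eq_one hpow
      have h5 : orderOf n ∣ p ^ m := orderOf_dvd_of_pow_eq_one hm'
      exact orderOf_eq_one_iff.1 (Nat.eq_one_of_dvd_coprimes (Nat.Coprime.pow_right m hgp) h4 h5)
    rw [hn, inv_mul_eq_one] at hn1
    calc q * g = (g * q * g⁻¹) * g := by rw [← hn1]
      _ = g * q := by group
  · rw [Subgroup.mem_normalizer_iff]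
    have key : ∀ a ∈ Subgroup.normalizer (Q : Set G), ∀ y ∈ Q.map (QuotientGroup.mk' N),
        QuotientGroup.mk' N a * y * (QuotientGroup.mk' N a)⁻¹ ∈ Q.map (QuotientGroup.mk' N) := by
      rintro a ha _ ⟨x, hx, rfl⟩
      refine ⟨a * x * a⁻¹, (Subgroup.mem_normalizer_iff.1 ha x).1 hx, ?_⟩
      rw [map_mul, map_mul, map_inv]
    intro y
    refine ⟨fun hy => key g hg y hy, fun hy => ?_⟩
    have := key g⁻¹ (Subgroup.inv_mem _ hg) _ hy
    rw [map_inv] at this
    convert this using 1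
    group
  · exact Nat.Coprime.coprime_dvd_left (orderOf_map_dvd _ g) hgp

end

/-- An isomorphism-invariant choice `W(P)` of a subgroup of each finite `p`-group `P`. -/
structure WFun (p : ℕ) where
  /-- the subgroup -/
  obj : ∀ (G : Type u) [Group G], Subgroup G → Subgroup G
  map_eq : ∀ (G G' : Type u) [Group G] [Group G'] [Finite G] [Finite G'] (f : G →* G')
      (P : Subgroup G), Set.InjOn f P → IsPGroup p P → (obj G P).map f = obj G' (P.map f)
  le : ∀ (G : Type u) [Group G] [Finite G] (P : Subgroup G), IsPGroup p P → obj G P ≤ P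
  ne_bot : ∀ (G : Type u) [Group G] [Finite G] (P : Subgroup G), IsPGroup p P → P ≠ ⊥ →
      obj G P ≠ ⊥

/-- The preimage in `T` of `W(T/Z)`. -/
def wz {p : ℕ} (W : WFun.{u} p) {T : Type u} [Group T] (Z : Subgroup T) [Z.Normal] : Subgroup T :=
  (W.obj (T ⧸ Z) ⊤).comap (QuotientGroup.mk' Z)

section wz

variable {p : ℕ} [Fact p.Prime] (W : WFun.{u} p)

theorem le_wz {T : Type u} [Group T] (Z : Subgroup T) [Z.Normal] : Z ≤ wz W Z := by
  intro z hz
  show QuotientGroup.mk' Z z ∈ W.obj (T ⧸ Z) ⊤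
  have : QuotientGroup.mk' Z z = 1 := (QuotientGroup.eq_one_iff z).2 hz
  rw [this]
  exact Subgroup.one_mem _

theorem lt_wz {T : Type u} [Group T] [Finite T] (hT : IsPGroup p T) (Z : Subgroup T) [Z.Normal]
    (hZ : Z ≠ ⊤) : Z < wz W Z := by
  refine lt_of_le_of_ne (le_wz W Z) fun h => ?_
  have hne : (⊤ : Subgroup (T ⧸ Z)) ≠ ⊥ := by
    intro h1
    apply hZ
    rw [eq_top_iff]
    intro x _
    have : (QuotientGroup.mk' Z x) ∈ (⊥ : Subgroup (T ⧸ Z)) := h1 ▸ Subgroup.mem_top _
    exact (QuotientGroup.eq_one_iff x).1 (Subgroup.mem_bot.1 this)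
  refine W.ne_bot (T ⧸ Z) ⊤ ((hT.to_quotient Z).to_subgroup ⊤) hne ?_
  rw [eq_bot_iff]
  intro y hy
  obtain ⟨x, rfl⟩ := QuotientGroup.mk'_surjective Z y
  have hx : x ∈ wz W Z := hy
  rw [← h] at hx
  exact Subgroup.mem_bot.2 ((QuotientGroup.eq_one_iff x).2 hx)

/-- `wz` is invariant under isomorphisms. -/
theorem wz_map_equiv {T T' : Type u} [Group T] [Group T'] [Finite T] [Finite T']
    (hT : IsPGroup p T) (e : T ≃* T') (Z : Subgroup T) [Z.Normal] (Z' : Subgroup T') [Z'.Normal]
    (h : Z.map e.toMonoidHom = Z') : (wz W Z).map e.toMonoidHom = wz W Z' := by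
  let ē : T ⧸ Z ≃* T' ⧸ Z' := QuotientGroup.congr Z Z' e h
  have h1 := W.map_eq (T ⧸ Z) (T' ⧸ Z') ē.toMonoidHom ⊤ (ē.injective.injOn)
    ((hT.to_quotient Z).to_subgroup ⊤)
  have h2 : (⊤ : Subgroup (T ⧸ Z)).map ē.toMonoidHom = ⊤ :=
    Subgroup.map_top_of_surjective _ ē.surjective
  rw [h2] at h1
  ext y
  constructor
  · rintro ⟨x, hx, rfl⟩
    show QuotientGroup.mk' Z' (e x) ∈ W.obj (T' ⧸ Z') ⊤
    rw [← h1]
    exact ⟨QuotientGroup.mk' Z x, hx, rfl⟩
  · intro hy
    have hy' : QuotientGroup.mk' Z' y ∈ W.obj (T' ⧸ Z') ⊤ := hy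
    rw [← h1] at hy'
    obtain ⟨x, hx, hxy⟩ := hy'
    refine ⟨e.symm y, ?_, e.apply_symm_apply y⟩
    show QuotientGroup.mk' Z (e.symm y) ∈ W.obj (T ⧸ Z) ⊤
    have : QuotientGroup.mk' Z (e.symm y) = x := by
      apply ē.injective
      show ē (QuotientGroup.mk' Z (e.symm y)) = ē x
      have h3 : ē x = QuotientGroup.mk' Z' y := hxy
      rw [h3]
      show QuotientGroup.mk' Z' (e (e.symm y)) = _
      rw [MulEquiv.apply_symm_apply]
    rw [this]
    exact hx

/-- `wz` in a group in which the image of `Z` is normal. -/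
theorem wz_map {T G : Type u} [Group T] [Group G] [Finite T] [Finite G] (hT : IsPGroup p T)
    (ι : T →* G) (hι : Function.Injective ι) (Z : Subgroup T) [Z.Normal] [hN : (Z.map ι).Normal] :
    (wz W Z).map ι = (W.obj (G ⧸ Z.map ι) (ι.range.map (QuotientGroup.mk' (Z.map ι)))).comap
      (QuotientGroup.mk' (Z.map ι)) := by
  let f : T ⧸ Z →* G ⧸ Z.map ι := QuotientGroup.map Z (Z.map ι) ι (Subgroup.le_comap_map ι Z)
  have hf : Function.Injective f := by
    rw [injective_iff_map_eq_one]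
    intro x hx
    obtain ⟨x, rfl⟩ := QuotientGroup.mk'_surjective Z x
    have h1 : QuotientGroup.mk' (Z.map ι) (ι x) = 1 := hx
    have h2 : ι x ∈ Z.map ι := (QuotientGroup.eq_one_iff (ι x)).1 h1
    obtain ⟨z, hz, hzx⟩ := h2
    rw [← hι hzx]
    exact (QuotientGroup.eq_one_iff z).2 hz
  have h1 := W.map_eq (T ⧸ Z) (G ⧸ Z.map ι) f ⊤ hf.injOn ((hT.to_quotient Z).to_subgroup ⊤)
  have h2 : (⊤ : Subgroup (T ⧸ Z)).map f = ι.range.map (QuotientGroup.mk' (Z.map ι)) := by
    ext y
    constructor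
    · rintro ⟨x, -, rfl⟩
      obtain ⟨x, rfl⟩ := QuotientGroup.mk'_surjective Z x
      exact ⟨ι x, ⟨x, rfl⟩, rfl⟩
    · rintro ⟨_, ⟨x, rfl⟩, rfl⟩
      exact ⟨QuotientGroup.mk' Z x, Subgroup.mem_top _, rfl⟩
  rw [h2] at h1
  rw [← h1]
  ext y
  constructor
  · rintro ⟨x, hx, rfl⟩
    exact ⟨QuotientGroup.mk' Z x, hx, rfl⟩
  · rintro ⟨x, hx, hxy⟩
    obtain ⟨x, rfl⟩ := QuotientGroup.mk'_surjective Z x
    have h3 : QuotientGroup.mk' (Z.map ι) (ι x) = QuotientGroup.mk' (Z.map ι) y := hxy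
    have h4 : (ι x)⁻¹ * y ∈ Z.map ι := QuotientGroup.eq.1 h3
    obtain ⟨z, hz, hzx⟩ := h4
    refine ⟨x * z, (wz W Z).mul_mem hx (le_wz W Z hz), ?_⟩
    rw [map_mul, hzx]
    group

end wz

/-- **The group step.** `ι : T → G` identifies `T` with a Sylow `p`-subgroup of `G`, `Z` is a subgroup of `T`
whose image is normal in `G` and centralized by all `p'`-elements of `G`, and the functor `W` controls
`p`-nilpotency in `G/Z`. If `G` has no normal `p`-complement, then some `p'`-element of `G` normalizes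
the preimage of `W(T/Z)` and a `p`-subgroup containing it, and does not centralize the latter. -/
theorem group_step {p : ℕ} [Fact p.Prime] (W : WFun.{u} p) {T G : Type u} [Group T] [Group G]
    [Finite T] [Finite G] (ι : T →* G) (hι : Function.Injective ι)
    (P : Sylow p G) (hP : (P : Subgroup G) = ι.range) (Z : Subgroup T) [Z.Normal]
    [hN : (Z.map ι).Normal]
    (hc : ∀ g : G, (orderOf g).Coprime p → ∀ z ∈ Z.map ι, g * z = z * g)
    (hW : ∀ R : Sylow p (G ⧸ Z.map ι), HasNormalPComplement p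
      (Subgroup.normalizer (W.obj (G ⧸ Z.map ι) (R : Subgroup (G ⧸ Z.map ι)) : Set (G ⧸ Z.map ι))) →
      HasNormalPComplement p (G ⧸ Z.map ι))
    (hG : ¬ HasNormalPComplement p G) :
    Z < wz W Z ∧ ∃ R : Subgroup T, wz W Z ≤ R ∧ ∃ g : G, (orderOf g).Coprime p ∧
      g ∈ Subgroup.normalizer ((R.map ι : Subgroup G) : Set G) ∧
      g ∈ Subgroup.normalizer (((wz W Z).map ι : Subgroup G) : Set G) ∧
      g ∉ Subgroup.centralizer ((R.map ι : Subgroup G) : Set G) := by
  have hTp : IsPGroup p T := by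
    have h1 : IsPGroup p ι.range := hP ▸ P.2
    exact h1.of_injective ι.rangeRestrict (fun x y h => hι (congrArg Subtype.val h))
  have hZp : IsPGroup p (Z.map ι) := (hTp.to_subgroup Z).map ι
  have hPbar : IsPGroup p (ι.range.map (QuotientGroup.mk' (Z.map ι))) := by
    rw [← hP]; exact P.2.map _
  -- the image of `P` is a Sylow subgroup of the quotient
  obtain ⟨R₀, hR₀⟩ : ∃ R₀ : Sylow p (G ⧸ Z.map ι),
      (R₀ : Subgroup (G ⧸ Z.map ι)) = ι.range.map (QuotientGroup.mk' (Z.map ι)) := by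
    have hs := P.mapSurjective (QuotientGroup.mk'_surjective (Z.map ι))
    refine ⟨P.mapSurjective (QuotientGroup.mk'_surjective (Z.map ι)), ?_⟩
    rw [Sylow.coe_mapSurjective, hP]
  set Wt : Subgroup G := (wz W Z).map ι with hWt
  set H := Subgroup.normalizer (Wt : Set G) with hH
  have hwz := wz_map W hTp ι hι Z
  -- the normalizer of `Wt` has no normal `p`-complement
  have hHn : ¬ HasNormalPComplement p H := by
    intro hcon
    apply hG
    refine hnc_of_quotient_of_centralized (Z.map ι) hZp hc (hW R₀ ?_)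
    refine hnc_of_le ?_ (hnc_map (QuotientGroup.mk' (Z.map ι)) H hcon)
    intro y hy
    obtain ⟨x, rfl⟩ := QuotientGroup.mk'_surjective (Z.map ι) y
    refine ⟨x, ?_, rfl⟩
    rw [hR₀] at hy
    rw [SetLike.mem_coe, hH, Subgroup.mem_normalizer_iff]
    intro g
    rw [hWt, hwz, Subgroup.mem_comap, Subgroup.mem_comap, map_mul, map_mul, map_inv]
    exact Subgroup.mem_normalizer_iff.1 hy _
  have hWtP : Wt ≤ P := by
    rw [hP, hWt]
    rintro _ ⟨x, -, rfl⟩
    exact ⟨x, rfl⟩
  have hPH : (P : Subgroup G) ≤ H := by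
    -- `wz W Z` is normal in `T`
    intro x hx
    rw [hP] at hx
    obtain ⟨t, rfl⟩ := hx
    have hnorm : ∀ t : T, ∀ y ∈ wz W Z, t * y * t⁻¹ ∈ wz W Z := by
      intro t y hy
      have h1 := wz_map_equiv W hTp (MulAut.conj t) Z Z (by
        ext z
        constructor
        · rintro ⟨w, hw, rfl⟩
          exact (inferInstance : Z.Normal).conj_mem w hw t
        · intro hz
          refine ⟨t⁻¹ * z * t, ?_, ?_⟩
          · have := (inferInstance : Z.Normal).conj_mem z hz t⁻¹
            simpa using this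
          · show t * (t⁻¹ * z * t) * t⁻¹ = z
            group)
      rw [← h1]
      exact ⟨y, hy, rfl⟩
    rw [hH, Subgroup.mem_normalizer_iff]
    intro g
    constructor
    · rintro ⟨y, hy, rfl⟩
      exact ⟨t * y * t⁻¹, hnorm t y hy, by simp⟩
    · rintro ⟨y, hy, hyg⟩
      refine ⟨t⁻¹ * y * t, ?_, ?_⟩
      · have := hnorm t⁻¹ y hy
        simpa using this
      · rw [map_mul, map_mul, map_inv, hyg]
        group
  refine ⟨lt_wz W hTp Z ?_, ?_⟩
  · -- `Z ≠ ⊤`
    rintro rfl
    apply hG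
    have hnt : (⊤ : Subgroup T).map ι = ι.range := (MonoidHom.range_eq_map ι).symm
    have hQp : HasNormalPComplement p (G ⧸ (⊤ : Subgroup T).map ι) := by
      apply hnc_of_coprime
      rw [← Subgroup.index_eq_card, hnt, ← hP]
      exact ((Fact.out : p.Prime).coprime_iff_not_dvd.2 P.not_dvd_index).symm
    exact hnc_of_quotient_of_centralized ((⊤ : Subgroup T).map ι) hZp hc hQp
  · -- Frobenius' criterion in `H`
    let PH : Sylow p H := P.subtype hPH
    have h1 := hHn
    rw [hnc_iff_frobenius PH] at h1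
    push Not at h1
    obtain ⟨Q, hQ, g, hg, hgp, hgc⟩ := h1
    set RG : Subgroup G := Q.map H.subtype ⊔ Wt with hRG
    have hRGP : RG ≤ P := by
      refine sup_le ?_ hWtP
      rintro _ ⟨x, hx, rfl⟩
      have := hQ hx
      exact this
    have hcm : (RG.comap ι).map ι = RG := by
      rw [Subgroup.map_comap_eq, ← hP]
      exact inf_eq_right.2 hRGP
    refine ⟨RG.comap ι, ?_, (g : G), ?_, ?_, g.2, ?_⟩
    · intro x hx
      exact (le_sup_right : Wt ≤ RG) ⟨x, hx, rfl⟩
    · rwa [Subgroup.orderOf_coe]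
    · rw [hcm]
      -- `g` normalizes both parts
      have hgn : ∀ a ∈ Subgroup.normalizer (Q : Set H), RG.map (MulAut.conj (a : G)).toMonoidHom ≤ RG := by
        intro a ha
        rw [hRG, Subgroup.map_sup]
        refine sup_le_sup ?_ ?_
        · rintro _ ⟨_, ⟨x, hx, rfl⟩, rfl⟩
          exact ⟨a * x * a⁻¹, (Subgroup.mem_normalizer_iff.1 ha x).1 hx, rfl⟩
        · rintro _ ⟨x, hx, rfl⟩
          exact (Subgroup.mem_normalizer_iff.1 a.2 x).1 hx
      rw [Subgroup.mem_normalizer_iff]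
      intro x
      constructor
      · intro hx
        exact hgn g hg ⟨x, hx, rfl⟩
      · intro hx
        have := hgn g⁻¹ (Subgroup.inv_mem _ hg) ⟨_, hx, rfl⟩
        have e : (MulAut.conj ((g⁻¹ : H) : G)).toMonoidHom ((g : G) * x * (g : G)⁻¹) = x := by
          show ((g⁻¹ : H) : G) * ((g : G) * x * (g : G)⁻¹) * ((g⁻¹ : H) : G)⁻¹ = x
          rw [Subgroup.coe_inv]
          group
        rwa [e] at this
    · rw [hcm]
      intro hcen
      apply hgc
      rw [Subgroup.mem_centralizer_iff] at hcen ⊢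
      intro x hx
      apply Subtype.ext
      exact hcen x ((le_sup_left : Q.map H.subtype ≤ RG) ⟨x, hx, rfl⟩)

end Cfsg.Agent.H801
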