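import Cfsg.Agent.H801.ReductOdd
import Cfsg.Agent.H801.Family
import Cfsg.Agent.H781.Realized
import Cfsg.Agent.H973.FusMorph

/-!
# Models of minimal non-inner fusion systems (helper801)

`inner_of_normal_in_models`: `p` odd, `F` saturated over the finite `p`-group `S`, `W ≤ S` such that the image of `W` is
normal in each `p`-stable model of a system `E ≤ F` over `S`. If the normalizer system of `W` in `F` is inner, then `F`
is inner.
-/

set_option autoImplicit false

namespace Cfsg.Agent.H801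

open Cfsg Cfsg.FusionSystem Cfsg.Agent.H802

universe u v

variable {Ω : Type u} [Group Ω] {S : Subgroup Ω}

/-- The image in `L` of a subgroup of `S`. -/
def up {L : Type v} [Group L] (ι : S →* L) (A : Subgroup Ω) : Subgroup L := (A.subgroupOf S).map ι

section up

variable {L : Type v} [Group L] {ι : S →* L}

theorem up_le_range (A : Subgroup Ω) : up ι A ≤ ι.range := by
  rintro _ ⟨x, -, rfl⟩
  exact ⟨x, rfl⟩

theorem mem_up (hι : Function.Injective ι) {A : Subgroup Ω} (x : S) : ι x ∈ up ι A ↔ (x : Ω) ∈ A := by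
  constructor
  · rintro ⟨y, hy, hyx⟩
    rw [← hι hyx]
    exact hy
  · intro hx
    exact ⟨x, hx, rfl⟩

theorem exists_up {B : Subgroup L} (hB : B ≤ ι.range) : ∃ A ≤ S, up ι A = B := by
  refine ⟨(B.comap ι).map S.subtype, Subgroup.map_subtype_le _, ?_⟩
  unfold up
  rw [Subgroup.subgroupOf, Subgroup.comap_map_eq_self_of_injective S.subtype_injective,
    Subgroup.map_comap_eq, inf_eq_right.2 hB]

theorem up_mono {A B : Subgroup Ω} (h : A ≤ B) : up ι A ≤ up ι B := by
  rintro _ ⟨x, hx, rfl⟩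
  exact ⟨x, h hx, rfl⟩

theorem up_le_up (hι : Function.Injective ι) {A B : Subgroup Ω} (hA : A ≤ S) :
    up ι A ≤ up ι B ↔ A ≤ B := by
  refine ⟨fun h x hx => ?_, up_mono⟩
  exact (mem_up hι ⟨x, hA hx⟩).1 (h ((mem_up hι ⟨x, hA hx⟩).2 hx))

theorem up_injective (hι : Function.Injective ι) {A B : Subgroup Ω} (hA : A ≤ S) (hB : B ≤ S)
    (h : up ι A = up ι B) : A = B :=
  le_antisymm ((up_le_up hι hA).1 h.le) ((up_le_up hι hB).1 h.ge)

theorem up_map {A : Subgroup S} : up ι (A.map S.subtype) = A.map ι := by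
  unfold up
  rw [Subgroup.subgroupOf, Subgroup.comap_map_eq_self_of_injective S.subtype_injective]

theorem up_commutator {A B : Subgroup Ω} (hA : A ≤ S) (hB : B ≤ S) :
    up ι ⁅A, B⁆ = ⁅up ι A, up ι B⁆ := by
  have h1 : ⁅A, B⁆ = (⁅A.subgroupOf S, B.subgroupOf S⁆).map S.subtype := by
    rw [Subgroup.map_commutator, Subgroup.map_subgroupOf_eq_of_le hA,
      Subgroup.map_subgroupOf_eq_of_le hB]
  rw [h1, up_map, Subgroup.map_commutator]
  rfl

theorem up_bot : up ι (⊥ : Subgroup Ω) = ⊥ := by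
  unfold up
  rw [Subgroup.bot_subgroupOf, Subgroup.map_bot]

theorem up_sInf (hι : Function.Injective ι) {𝒜 : Set (Subgroup Ω)} (hne : 𝒜.Nonempty) :
    up ι (sInf 𝒜) = sInf (up ι '' 𝒜) := by
  apply le_antisymm
  · refine le_sInf ?_
    rintro _ ⟨A, hA, rfl⟩
    exact up_mono (sInf_le hA)
  · intro y hy
    obtain ⟨A0, hA0⟩ := hne
    have h0 : y ∈ up ι A0 := (Subgroup.mem_sInf.1 hy) _ ⟨A0, hA0, rfl⟩
    obtain ⟨x, rfl⟩ := up_le_range A0 h0
    rw [mem_up hι, Subgroup.mem_sInf]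
    intro A hA
    rw [← mem_up hι]
    exact (Subgroup.mem_sInf.1 hy) _ ⟨A, hA, rfl⟩

theorem isMulCommutative_up {A : Subgroup Ω} (hA : IsMulCommutative A) : IsMulCommutative (up ι A) := by
  refine ⟨⟨?_⟩⟩
  rintro ⟨_, x, hx, rfl⟩ ⟨_, y, hy, rfl⟩
  apply Subtype.ext
  show ι x * ι y = ι y * ι x
  rw [← map_mul, ← map_mul]
  congr 1
  apply Subtype.ext
  exact PLocal.Replacement.mul_comm_of_isMulCommutative hA hx hy

theorem isPGroup_of_up {p : ℕ} (hι : Function.Injective ι) {A : Subgroup Ω} (hA : A ≤ S)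
    (h : IsPGroup p (up ι A)) : IsPGroup p A := by
  intro a
  obtain ⟨k, hk⟩ := h ⟨ι ⟨a, hA a.2⟩, (mem_up hι _).2 a.2⟩
  refine ⟨k, ?_⟩
  have h1 : (ι ⟨a, hA a.2⟩) ^ p ^ k = 1 := congrArg Subtype.val hk
  rw [← map_pow] at h1
  have h2 := congrArg Subtype.val (hι (h1.trans (map_one ι).symm))
  apply Subtype.ext
  rw [Subgroup.coe_pow]
  exact h2

theorem up_le_normalizer (hι : Function.Injective ι) {A B : Subgroup Ω} (hA : A ≤ S) (hB : B ≤ S)
    (h : up ι B ≤ Subgroup.normalizer (up ι A : Set L)) : B ≤ Subgroup.normalizer (A : Set Ω) := by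
  intro b hb
  rw [Subgroup.mem_normalizer_iff]
  have h1 := Subgroup.mem_normalizer_iff.1 (h ((mem_up hι ⟨b, hB hb⟩).2 hb))
  intro a
  constructor
  · intro ha
    have h2 := (h1 (ι ⟨a, hA ha⟩)).1 ((mem_up hι _).2 ha)
    rw [← map_mul, ← map_inv, ← map_mul, mem_up hι] at h2
    exact h2
  · intro ha
    have haS : a ∈ S := by
      have h3 := S.mul_mem (S.mul_mem (S.inv_mem (hB hb)) (hA ha)) (hB hb)
      have e : b⁻¹ * (b * a * b⁻¹) * b = a := by group
      rwa [e] at h3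
    have h2 := (h1 (ι ⟨a, haS⟩)).2 (by
      rw [← map_mul, ← map_inv, ← map_mul, mem_up hι]
      exact ha)
    exact (mem_up hι _).1 h2

theorem up_le_normalizer_up {A B : Subgroup Ω} 
    (h : B ≤ Subgroup.normalizer (A : Set Ω)) : up ι B ≤ Subgroup.normalizer (up ι A : Set L) := by
  rintro _ ⟨b, hb, rfl⟩
  have key : ∀ c : S, (c : Ω) ∈ Subgroup.normalizer (A : Set Ω) → ∀ y ∈ up ι A,
      ι c * y * (ι c)⁻¹ ∈ up ι A := by
    rintro c hc _ ⟨a, ha, rfl⟩
    refine ⟨c * a * c⁻¹, ?_, by simp⟩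
    exact (Subgroup.mem_normalizer_iff.1 hc a).1 ha
  rw [Subgroup.mem_normalizer_iff]
  intro y
  refine ⟨key b (h hb) y, fun hy => ?_⟩
  have h2 := key b⁻¹ ((Subgroup.normalizer (A : Set Ω)).inv_mem (h hb)) _ hy
  have e : ι b⁻¹ * (ι b * y * (ι b)⁻¹) * (ι b⁻¹)⁻¹ = y := by
    rw [map_inv]; group
  rwa [e] at h2

end up

/-- A finite group realizing an inner system has a normal `p`-complement. -/
theorem hnc_of_inner {p : ℕ} [Fact p.Prime] [Finite S] (hS : IsPGroup p S) {F : FusionSystem S}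
    {L : Type v} [Group L] [Finite L] {ι : S →* L} (h : F.IsRealizedBy ι)
    (P : Sylow p L) (hP : (P : Subgroup L) = ι.range)
    (hin : ∀ Q : Subgroup Ω, F.Hom Q = (innerFusionSystem S).Hom Q) : HasNormalPComplement p L := by
  rw [hnc_iff_frobenius P]
  intro Q hQ g hg hcop
  rw [hP] at hQ
  obtain ⟨R, hR, hRQ⟩ := exists_up (ι := ι) hQ
  have hfR : Finite R := finite_of_le hR
  have hg' : g ∈ Subgroup.normalizer (((R.subgroupOf S).map ι : Subgroup L) : Set L) := by
    have : (R.subgroupOf S).map ι = Q := hRQ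
    rw [this]; exact hg
  obtain ⟨α, hα, hact⟩ := exists_aut_of_mem_normalizer h hR hg'
  have hord := orderOf_dvd_of_realized h.1 hR hact
  have hpg : IsPGroup p (F.autGroup R) := isPGroup_autGroup_of_inner hS hR (hin R).le
  have h0 : (⟨α, hα⟩ : F.autGroup R) = 1 := eq_one_of_isPGroup_of_coprime hpg (by
    rw [← Subgroup.orderOf_coe]
    exact Nat.Coprime.coprime_dvd_left hord hcop)
  have h1 : α = 1 := congrArg Subtype.val h0
  rw [Subgroup.mem_centralizer_iff]
  intro y hy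
  rw [← hRQ] at hy
  obtain ⟨x, hx, rfl⟩ := hy
  have h2 := hact ⟨x, hx⟩
  rw [h1] at h2
  have h3 : ι x = g * ι x * g⁻¹ := h2
  calc ι x * g = g * ι x * g⁻¹ * g := by rw [← h3]
    _ = g * ι x := by group

/-- In a model of a minimal non-inner system the Sylow subgroup is maximal. -/
theorem maximal_of_minimal {p : ℕ} [Fact p.Prime] [Finite S] (hS : IsPGroup p S) {E : FusionSystem S}
    (hmin : ∀ E' : FusionSystem S, E'.IsSaturated p → E' ≤ E →
      (¬ ∀ P : Subgroup Ω, E'.Hom P = (innerFusionSystem S).Hom P) → ∀ P, E'.Hom P = E.Hom P)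
    {L : Type v} [Group L] {ι : S →* L} (h : E.IsModel p L ι) (M : Subgroup L) (hM : ι.range ≤ M) :
    M = ι.range ∨ M = ⊤ := by
  obtain ⟨hfin, hreal, ⟨T, hT⟩, hC⟩ := h
  set ιM : S →* M := ι.codRestrict M (fun x => hM ⟨x, rfl⟩) with hιM
  have hinj : Function.Injective ιM := by
    intro a b hab
    exact hreal.1 (congrArg Subtype.val hab)
  have hcoe : ∀ x : S, ((ιM x : M) : L) = ι x := fun x => rfl
  set E' := H781.pullback ιM hinj with hE'
  have hE'r : E'.IsRealizedBy ιM := H781.pullback_isRealizedBy ιM hinj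
  have hTM : (T : Subgroup L) ≤ M := hT.trans_le hM
  have hrange : ((T.subtype hTM : Sylow p M) : Subgroup M) = ιM.range := by
    rw [Sylow.coe_subtype]
    ext y
    rw [Subgroup.mem_subgroupOf, hT]
    constructor
    · rintro ⟨x, hx⟩
      exact ⟨x, Subtype.ext hx⟩
    · rintro ⟨x, hx⟩
      exact ⟨x, congrArg Subtype.val hx⟩
  have hE's : E'.IsSaturated p := H781.isSaturated_of_isRealizedBy hE'r _ hrange
  have hle : E' ≤ E := by
    intro P φ hφ
    obtain ⟨hP, hφS, g, hg⟩ := hφ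
    exact (hreal.2 P hP φ hφS).2 ⟨g, fun x => congrArg Subtype.val (hg x)⟩
  by_cases hin : ∀ P : Subgroup Ω, E'.Hom P = (innerFusionSystem S).Hom P
  · left
    have h1 := hnc_of_inner hS hE'r _ hrange hin
    rw [PLocal.ComplementReduction.eq_of_npc hC T M hTM h1, hT]
  · right
    have hsame := hmin E' hE's hle hin
    rw [eq_top_iff]
    intro g _
    have hcore_le : pCore p L ≤ ι.range := by
      rw [← hT]
      exact Lib.Cores.pCore_le_sylow T
    obtain ⟨R, hR, hRQ⟩ := exists_up (ι := ι) hcore_le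
    have hnorm : (pCore p L).Normal := Lib.Cores.pCore_normal p
    have hg' : g ∈ Subgroup.normalizer (((R.subgroupOf S).map ι : Subgroup L) : Set L) := by
      have : (R.subgroupOf S).map ι = pCore p L := hRQ
      rw [this, Subgroup.normalizer_eq_top]
      exact Subgroup.mem_top g
    obtain ⟨α, hα, hact⟩ := exists_aut_of_mem_normalizer hreal hR hg'
    have hα' : α ∈ E'.autGroup R := by
      rw [mem_autGroup_iff _ hR] at hα ⊢
      rw [hsame R]
      exact hα
    obtain ⟨m, hm⟩ := exists_of_mem_autGroup hE'r hR hα'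
    have hcent : (m : L)⁻¹ * g ∈ Subgroup.centralizer ((pCore p L : Subgroup L) : Set L) := by
      rw [Subgroup.mem_centralizer_iff]
      intro y hy
      have hy' : y ∈ up ι R := by rw [hRQ]; exact hy
      obtain ⟨x, hx, rfl⟩ := hy'
      have h2 := hact ⟨x, hx⟩
      have h3 := congrArg Subtype.val (hm ⟨x, hx⟩)
      have h4 : g * ι x * g⁻¹ = (m : L) * ι x * (m : L)⁻¹ := h2.symm.trans h3
      have h5 : (m : L)⁻¹ * g * ι x = (m : L)⁻¹ * (g * ι x * g⁻¹) * g := by group
      rw [h5, h4]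
      group
    have h6 : (m : L)⁻¹ * g ∈ M := hM (hcore_le (hC hcent))
    have h7 := M.mul_mem m.2 h6
    rwa [mul_inv_cancel_left] at h7

theorem innerFusionSystem_le (F : FusionSystem S) (P : Subgroup Ω) :
    (innerFusionSystem S).Hom P ⊆ F.Hom P := by
  rintro φ ⟨hP, g, hg, h⟩
  have h1 := F.conj_mem hP hg
  have : φ = conjHom P g := MonoidHom.ext fun x => h x
  rw [this]
  exact h1

/-- The normalizer system of a subgroup of `S` is inner if the system is. -/
theorem normalizerSystem_inner {F : FusionSystem S} {W : Subgroup Ω}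
    (hin : ∀ P : Subgroup Ω, F.Hom P = (innerFusionSystem S).Hom P)
    (N : FusionSystem (normalizerIn S W)) (hN : F.IsNormalizerSystem W N) (P : Subgroup Ω) :
    N.Hom P = (innerFusionSystem (normalizerIn S W)).Hom P := by
  apply Set.Subset.antisymm
  · intro φ hφ
    rw [hN P] at hφ
    obtain ⟨h1, h2, h3, ψ, hψ, h4, h5⟩ := hφ
    rw [hin (P ⊔ W)] at hψ
    obtain ⟨hPW, g, hg, hgψ⟩ := hψ
    have hconj : W.map (MulAut.conj g).toMonoidHom = W := by
      conv_rhs => rw [← h5]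
      ext y
      constructor
      · rintro ⟨w, hw, rfl⟩
        refine ⟨⟨w, (le_sup_right : W ≤ P ⊔ W) hw⟩, hw, ?_⟩
        exact hgψ _
      · rintro ⟨w, hw, rfl⟩
        refine ⟨w, hw, ?_⟩
        exact (hgψ w).symm
    refine ⟨h2, g, ⟨hg, ?_⟩, fun x => ?_⟩
    · show g ∈ Subgroup.normalizer (W : Set Ω)
      rw [Subgroup.mem_normalizer_iff_map_conj_eq]
      exact hconj
    · rw [← h4 x, hgψ]
      rfl
  · exact innerFusionSystem_le N P

/-- **Control of innerness.** -/
theorem inner_of_normal_in_models {p : ℕ} [Fact p.Prime] (hp : p ≠ 2) [Finite S] (hS : IsPGroup p S)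
    {F : FusionSystem S} (hF : F.IsSaturated p) {W : Subgroup Ω} (hWS : W ≤ S)
    (hW : ∀ E : FusionSystem S, E.IsSaturated p → E ≤ F →
      ∀ (L : Type u) [Group L] [Finite L] (ι : S →* L), E.IsModel p L ι →
      (∀ (V : Subgroup L) [V.Normal], IsPGroup p V → IsPStableOn p V) → (up ι W).Normal)
    (hN : ∀ N : FusionSystem (normalizerIn S W), F.IsNormalizerSystem W N → ∀ P : Subgroup Ω,
      N.Hom P = (innerFusionSystem (normalizerIn S W)).Hom P) (P : Subgroup Ω) :
    F.Hom P = (innerFusionSystem S).Hom P := by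
  by_contra hcon
  have hnon : ¬ ∀ P : Subgroup Ω, F.Hom P = (innerFusionSystem S).Hom P := fun h => hcon (h P)
  obtain ⟨E, ⟨hE, hEn⟩, hEF, hEmin⟩ := exists_minimal_system
      (fun E : FusionSystem S => E.IsSaturated p ∧
        ¬ ∀ P : Subgroup Ω, E.Hom P = (innerFusionSystem S).Hom P) ⟨hF, hnon⟩
  obtain ⟨E', hE'E, hE'c, hE'n⟩ := exists_constrained_odd hp hS hE hEn
  have heq : E' = E := fusionSystem_ext (hEmin E' ⟨hE'c.1, hE'n⟩ hE'E)
  subst heq
  obtain ⟨Q, hQn, hQc⟩ := hE'c.2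
  obtain ⟨L, _, ι, hmod, -⟩ := H771.exists_model hS hE hQn hQc
  have hfL' : Finite L := hmod.1
  have hmax := maximal_of_minimal hS (fun E'' h1 h2 h3 => hEmin E'' ⟨h1, h3⟩ h2) hmod
  obtain ⟨T, hT⟩ := hmod.2.2.1
  have hnorm := hW E' hE hEF L ι hmod (fun V _ hV =>
    isPStableOn_of_maximal hp T (fun M hM => by rw [hT] at hM ⊢; exact hmax M hM) V hV)
  have hWn : E'.IsNormal W := H973.isNormal_of_realized (N := up ι W) hmod.2.1 hWS rfl
  have hSW : S ≤ Subgroup.normalizer (W : Set Ω) := le_normalizer_of_isNormal hWn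
  obtain ⟨N, hNN⟩ := exists_normalizerSystem F hWS
  apply hEn
  intro P
  apply Set.Subset.antisymm
  · intro φ hφ
    have h1 : φ ∈ F.normalizerHom W P := by
      obtain ⟨ψ, hψ, h2, h3⟩ := hWn.2 P φ hφ
      exact ⟨hEF P hφ, (E'.le_of_mem hφ).1.trans (le_inf le_rfl hSW),
        fun x => ⟨(E'.le_of_mem hφ).2 x, hSW ((E'.le_of_mem hφ).2 x)⟩, ψ, hEF _ hψ, h2, h3⟩
    rw [← hNN P, hN N hNN P] at h1
    obtain ⟨h2, g, hg, h3⟩ := h1
    exact ⟨(E'.le_of_mem hφ).1, g, hg.1, h3⟩
  · exact innerFusionSystem_le E' P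

end Cfsg.Agent.H801
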