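import Cfsg.Agent.H801.Local
import Cfsg.Agent.H802.FusKSat

/-!
# The reduction to constrained systems: a normal subgroup (helper801)
-/

set_option autoImplicit false

namespace Cfsg.Agent.H801

open Cfsg Cfsg.FusionSystem Cfsg.Agent.H802

universe u

variable {Ω : Type u} [Group Ω] {S : Subgroup Ω}

/-- The normalizer system of `Q` contains a nontrivial `p'`-automorphism. -/
def NI (F : FusionSystem S) (p : ℕ) (Q : Subgroup Ω) : Prop :=
  ∃ R : Subgroup Ω, Q ≤ R ∧ R ≤ normalizerIn S Q ∧ ∃ α ∈ F.autGroup R, α ≠ 1 ∧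
    (orderOf α).Coprime p ∧ ∀ x : R, (x : Ω) ∈ Q → ((α x : R) : Ω) ∈ Q

theorem mem_autGroup_normalizerSystem {F : FusionSystem S} {Q : Subgroup Ω}
    {E : FusionSystem (normalizerIn S Q)} (hE : F.IsNormalizerSystem Q E) {R : Subgroup Ω}
    [Finite Q] (hQR : Q ≤ R) (hR : R ≤ normalizerIn S Q) {α : MulAut R} (hα : α ∈ F.autGroup R)
    (hαQ : ∀ x : R, (x : Ω) ∈ Q → ((α x : R) : Ω) ∈ Q) : α ∈ E.autGroup R := by
  have hRS : R ≤ S := hR.trans inf_le_left
  have h1 := (mem_autGroup_iff F hRS α).1 hα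
  have hsup : R ⊔ Q ≤ R := sup_le le_rfl hQR
  rw [mem_autGroup_iff E hR, hE R]
  refine ⟨h1, hR, fun x => hR (α x).2, _, restrict_mem h1 hsup, fun x => rfl, ?_⟩
  set ψ := (R.subtype.comp α.toMonoidHom).comp (Subgroup.inclusion hsup) with hψ
  have hinj : Function.Injective ψ := F.injective_of_mem (restrict_mem h1 hsup)
  have hle : (Q.subgroupOf (R ⊔ Q)).map ψ ≤ Q := by
    rintro _ ⟨x, hx, rfl⟩
    exact hαQ (Subgroup.inclusion hsup x) hx
  refine Subgroup.eq_of_le_of_card_ge hle ?_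
  rw [Subgroup.card_map_of_injective hinj]
  exact (Nat.card_congr (Subgroup.subgroupOfEquivOfLe (le_sup_right : Q ≤ R ⊔ Q)).toEquiv).ge

theorem isPGroup_of_le {p : ℕ} (hS : IsPGroup p S) {T : Subgroup Ω} (hT : T ≤ S) : IsPGroup p T :=
  hS.of_injective (Subgroup.inclusion hT) (Subgroup.inclusion_injective hT)

theorem NI.not_inner {p : ℕ} [Finite S] (hS : IsPGroup p S) {F : FusionSystem S} {Q : Subgroup Ω}
    (h : NI F p Q) {E : FusionSystem (normalizerIn S Q)} (hE : F.IsNormalizerSystem Q E) :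
    ¬ ∀ P : Subgroup Ω, E.Hom P = (innerFusionSystem (normalizerIn S Q)).Hom P := by
  obtain ⟨R, hQR, hR, α, hα, h1, hp, hαQ⟩ := h
  have hfQ : Finite Q := finite_of_le (hQR.trans (hR.trans inf_le_left))
  intro hcon
  exact not_inner_of_pprime (isPGroup_of_le hS inf_le_left) hR
    (mem_autGroup_normalizerSystem hE hQR hR hα hαQ) h1 hp (hcon R).le

theorem normalizerSystem_isSubsystemOf {F : FusionSystem S} {Q : Subgroup Ω}
    {E : FusionSystem (normalizerIn S Q)} (hE : F.IsNormalizerSystem Q E) : E.IsSubsystemOf F := by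
  intro P φ hφ
  rw [hE P] at hφ
  exact hφ.1

/-- Transport of `NI` along a map defined on `N_S(Q)`. -/
theorem NI.transport {p : ℕ} {F : FusionSystem S} {Q Q' : Subgroup Ω}
    (h : NI F p Q) {ψ : ↥(normalizerIn S Q) →* Ω} (hψ : ψ ∈ F.Hom (normalizerIn S Q))
    (hQ' : (Q.subgroupOf (normalizerIn S Q)).map ψ = Q') : NI F p Q' := by
  obtain ⟨R, hQR, hR, α, hα, h1, hp, hαQ⟩ := h
  have hψR : ψ.comp (Subgroup.inclusion hR) ∈ F.Hom R := restrict_mem hψ hR
  have hmemQ : ∀ x : ↥(normalizerIn S Q), ψ x ∈ Q' ↔ (x : Ω) ∈ Q := by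
    intro x
    rw [← hQ']
    constructor
    · rintro ⟨y, hy, hyx⟩
      rw [← F.injective_of_mem hψ hyx]
      exact hy
    · intro hx
      exact ⟨x, hx, rfl⟩
  refine ⟨(ψ.comp (Subgroup.inclusion hR)).range, ?_, ?_, tr hψR rfl α,
    tr_mem_autGroup hψR rfl hα, ?_, ?_, ?_⟩
  · rw [← hQ']
    rintro _ ⟨x, hx, rfl⟩
    exact ⟨⟨x, hQR hx⟩, rfl⟩
  · rintro _ ⟨x, rfl⟩
    refine ⟨hom_apply_mem hψR x, ?_⟩
    have key : ∀ r : ↥(normalizerIn S Q), ∀ y ∈ Q', ψ r * y * (ψ r)⁻¹ ∈ Q' := by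
      intro r y hy
      rw [← hQ'] at hy
      obtain ⟨q, hq, rfl⟩ := hy
      rw [← map_inv, ← map_mul, ← map_mul, hmemQ]
      exact (Subgroup.mem_normalizer_iff.1 r.2.2 _).1 hq
    show (ψ.comp (Subgroup.inclusion hR)) x ∈ Subgroup.normalizer (Q' : Set Ω)
    rw [Subgroup.mem_normalizer_iff]
    intro y
    refine ⟨fun hy => key (Subgroup.inclusion hR x) y hy, fun hy => ?_⟩
    have h3 := key (Subgroup.inclusion hR x)⁻¹ _ hy
    rw [map_inv] at h3
    have e : (ψ (Subgroup.inclusion hR x))⁻¹ * ((ψ.comp (Subgroup.inclusion hR)) x * y *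
        ((ψ.comp (Subgroup.inclusion hR)) x)⁻¹) * (ψ (Subgroup.inclusion hR x))⁻¹⁻¹ = y := by
      show (ψ (Subgroup.inclusion hR x))⁻¹ * (ψ (Subgroup.inclusion hR x) * y *
        (ψ (Subgroup.inclusion hR x))⁻¹) * (ψ (Subgroup.inclusion hR x))⁻¹⁻¹ = y
      group
    rwa [e] at h3
  · intro h
    exact h1 ((MulEquiv.map_eq_one_iff (tr hψR rfl)).1 h)
  · rwa [MulEquiv.orderOf_eq]
  · rintro ⟨_, x, rfl⟩ hx
    have h3 := tr_apply hψR rfl α x ⟨x, rfl⟩
    have h4 : ψ (Subgroup.inclusion hR (α x)) ∈ Q' := (hmemQ (Subgroup.inclusion hR (α x))).2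
      (hαQ x ((hmemQ (Subgroup.inclusion hR x)).1 hx))
    exact Set.mem_of_eq_of_mem h3 h4

/-- `NI` passes to a fully normalized conjugate. -/
theorem NI.exists_isFullyNormalized {p : ℕ} [Fact p.Prime] [Finite S] (hS : IsPGroup p S)
    {F : FusionSystem S} (hF : F.IsSaturated p) {Q : Subgroup Ω} (hQ : Q ≤ S) (h : NI F p Q) :
    ∃ Q' : Subgroup Ω, F.IsFullyNormalized Q' ∧ F.IsConj Q Q' ∧ NI F p Q' ∧
      Nat.card (normalizerIn S Q) ≤ Nat.card (normalizerIn S Q') := by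
  obtain ⟨Q', hconj, hQ'⟩ := H802.exists_isFullyNormalized hS hF hQ
  refine ⟨Q', hQ', hconj, ?_, ?_⟩
  · obtain ⟨φ, hφ, hφr⟩ := hconj
    obtain ⟨β, hβ, ψ, hψ, h1, h2⟩ := exists_extension_normalizer hS hF hφ hφr hQ'
    refine h.transport hψ ?_
    have hmem : ∀ x : Q, φ x ∈ Q' := fun x => hφr ▸ ⟨x, rfl⟩
    ext y
    constructor
    · rintro ⟨x, hx, rfl⟩
      have := h1 ⟨x, hx⟩ (hmem _) x.2
      rw [show ψ x = _ from this]
      exact (β _).2
    · intro hy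
      have h3 : ((β.symm ⟨y, hy⟩ : Q') : Ω) ∈ φ.range := hφr ▸ (β.symm ⟨y, hy⟩).2
      obtain ⟨x, hx⟩ := h3
      have hxN : (x : Ω) ∈ normalizerIn S Q := le_normalizerIn hQ x.2
      refine ⟨⟨x, hxN⟩, x.2, ?_⟩
      rw [h1 x (hmem x) hxN]
      have h4 : (⟨φ x, hmem x⟩ : Q') = β.symm ⟨y, hy⟩ := Subtype.ext hx
      rw [h4, MulEquiv.apply_symm_apply]
  · exact hQ'.2 Q (isConj_symm hconj)

theorem finite_setOf_le [Finite S] : {Z : Subgroup Ω | Z ≤ S}.Finite := by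
  have : Finite {Z : Subgroup Ω // Z ≤ S} := by
    refine Finite.of_injective (β := Subgroup S) (fun Z => Z.1.subgroupOf S) ?_
    rintro ⟨A, hA⟩ ⟨B, hB⟩ h
    apply Subtype.ext
    have h2 := congrArg (Subgroup.map S.subtype) h
    simpa [Subgroup.map_subgroupOf_eq_of_le hA, Subgroup.map_subgroupOf_eq_of_le hB] using h2
  exact this

/-- A subgroup conjugate to one properly containing the normal `Z` properly contains `Z`. -/
theorem lt_of_isConj [Finite S] {F : FusionSystem S} {Z Q Q' : Subgroup Ω} (hZ : F.IsNormal Z)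
    (h : F.IsConj Q Q') (hZQ : Z < Q) : Z < Q' := by
  have hcard := isConj_card_eq h
  have hfQ' : Finite Q' := finite_of_le (isConj_le_right h)
  have hfQ : Finite Q := finite_of_le (isConj_le_left h)
  obtain ⟨φ, hφ, rfl⟩ := h
  refine lt_of_le_of_ne ?_ ?_
  · intro z hz
    obtain ⟨x, hx, hxz⟩ := H759.StronglyClosed.exists_preimage (H759.IsNormal.stronglyClosed hZ) hφ
      hZQ.le hz
    exact ⟨_, hxz⟩
  · intro heq
    rw [← heq] at hcard
    exact hZQ.ne (Subgroup.eq_of_le_of_card_ge hZQ.le hcard.le)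

/-- **Step 1.** In a non-inner system with the local step available below `S`, some fully normalized `Q > Z` normal
in `S` has a non-inner normalizer system. -/
theorem exists_normal_NI {p : ℕ} [Fact p.Prime] [Finite S] (W : WFun.{u} p) (hS : IsPGroup p S)
    {F : FusionSystem S} (hF : F.IsSaturated p) {Z : Subgroup Ω} (hZ : HypZ F p Z)
    (hnon : ¬ ∀ P : Subgroup Ω, F.Hom P = (innerFusionSystem S).Hom P)
    (hloc : ∀ (T : Subgroup Ω) (E : FusionSystem T), T < S → Z ≤ T → E.IsSaturated p →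
      E.IsSubsystemOf F → (¬ ∀ P : Subgroup Ω, E.Hom P = (innerFusionSystem T).Hom P) →
      Z < wzOf W T Z ∧ ∃ R : Subgroup Ω, wzOf W T Z ≤ R ∧ R ≤ T ∧ ∃ α ∈ F.autGroup R, α ≠ 1 ∧
      (orderOf α).Coprime p ∧
      ∀ x : R, (x : Ω) ∈ wzOf W T Z → ((α x : R) : Ω) ∈ wzOf W T Z) :
    ∃ Q : Subgroup Ω, F.IsFullyNormalized Q ∧ Z < Q ∧ NI F p Q ∧ normalizerIn S Q = S := by
  have hZS : Z ≤ S := hZ.1.1
  have hSZ : S ≤ Subgroup.normalizer (Z : Set Ω) := le_normalizer_of_isNormal hZ.1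
  -- existence of some `Q`
  have hne : {Q : Subgroup Ω | F.IsFullyNormalized Q ∧ Z < Q ∧ NI F p Q}.Nonempty := by
    obtain ⟨R, hR, α, hα, h1, hp⟩ := exists_pprime_of_not_inner hS hF hnon
    obtain ⟨β, hβ, hβp, hβR, hβZ⟩ := exists_extend_normal hZ.1 hR.1 hα hp
    have hsup : R ⊔ Z ≤ S := sup_le hR.1 hZS
    have hβ1 : β ≠ 1 := by
      rintro rfl
      apply h1
      apply MulEquiv.ext
      intro x
      exact Subtype.ext (hβR x).symm
    have hlt : Z < R ⊔ Z := by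
      refine lt_of_le_of_ne le_sup_right fun heq => hβ1 ?_
      apply MulEquiv.ext
      intro x
      exact hZ.fix hsup hβ hβp x (heq.ge x.2)
    have hNI : NI F p (R ⊔ Z) :=
      ⟨R ⊔ Z, le_rfl, le_normalizerIn hsup, β, hβ, hβ1, hβp, fun x _ => (β x).2⟩
    obtain ⟨Q', h1, h2, h3, -⟩ := hNI.exists_isFullyNormalized hS hF hsup
    exact ⟨Q', h1, lt_of_isConj hZ.1 h2 hlt, h3⟩
  have hfin : {Q : Subgroup Ω | F.IsFullyNormalized Q ∧ Z < Q ∧ NI F p Q}.Finite :=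
    (finite_setOf_le (S := S)).subset fun Q hQ => hQ.1.1
  obtain ⟨Q, ⟨hQn, hZQ, hNI⟩, hmax⟩ :=
    Set.exists_max_image _ (fun Q : Subgroup Ω => Nat.card (normalizerIn S Q)) hfin hne
  refine ⟨Q, hQn, hZQ, hNI, ?_⟩
  by_contra hneS
  set T := normalizerIn S Q with hTdef
  have hTS : T ≤ S := inf_le_left
  have hTlt : T < S := lt_of_le_of_ne hTS hneS
  have hZT : Z ≤ T := hZQ.le.trans (le_normalizerIn hQn.1)
  obtain ⟨E, hE⟩ := exists_normalizerSystem F hQn.1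
  have hEs := normalizerSystem_isSaturated hS hF hQn hE
  obtain ⟨hlt, R, hWR, hRT, α, hα, hα1, hαp, hαW⟩ := hloc T E hTlt hZT hEs
    (normalizerSystem_isSubsystemOf hE) (hNI.not_inner hS hE)
  set Wt := wzOf W T Z with hWt
  have hfT : Finite T := finite_of_le hTS
  have hWS : Wt ≤ S := hWR.trans (hRT.trans hTS)
  have hNle : normalizerIn S T ≤ normalizerIn S Wt := by
    intro s hs
    exact ⟨hs.1, mem_normalizer_wzOf W (isPGroup_of_le hS hTS) (hTS.trans hSZ) hs.2 (hSZ hs.1)⟩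
  have hNI' : NI F p Wt :=
    ⟨R, hWR, hRT.trans ((le_normalizerIn hTS).trans hNle), α, hα, hα1, hαp, hαW⟩
  obtain ⟨Q', h1, h2, h3, h4⟩ := hNI'.exists_isFullyNormalized hS hF hWS
  have h5 := hmax Q' ⟨h1, lt_of_isConj hZ.1 h2 hlt, h3⟩
  have h6 := card_lt_card_normalizerIn hS hTS hneS
  have h7 : Nat.card (normalizerIn S T) ≤ Nat.card (normalizerIn S Wt) := by
    have : Finite (normalizerIn S Wt) := finite_of_le inf_le_left
    exact Nat.card_mono (Set.toFinite _) hNle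
  omega

end Cfsg.Agent.H801
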